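import Cfsg.Agent.Helper89.CosetTable

/-!
# Coset table certificates for arbitrary generators (helper89)

The same verified Todd–Coxeter certificate checker as in `CosetTable.lean`, but for generators
that need not be involutions: the symbols come in pairs `2 i`, `2 i + 1` standing for a generator
and its inverse (`iv j = j ^^^ 1`).  The check can be split into a prefix (table, subgroup
generators, spanning tree) and several runs of deduction steps, so that big certificates can be
spread over several files.
-/

set_option autoImplicit false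

namespace Cfsg.Agent.Helper89

namespace CT2

section defs

/-- The inverse symbol. -/
def iv (j : ℕ) : ℕ := j ^^^ 1

/-- The inverse word. -/
def invw : List ℕ → List ℕ
  | [] => []
  | j :: w => invw w ++ [iv j]

/-- One deduction step `(c₀, relator index, gap position)`. -/
def stepChk (T : ℕ → ℕ → ℕ) (k : ℕ) (rels : List (List ℕ)) (E : ℕ) (s : ℕ × ℕ × ℕ) : Option ℕ :=
  match (rels.getD s.2.1 []).drop s.2.2 with
  | [] => none
  | j :: post =>
    match walkChk T k E s.1 ((rels.getD s.2.1 []).take s.2.2), walkChk T k E s.1 (invw post) with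
    | some f, some b =>
      if j < k && iv j < k && T f j == b && T b (iv j) == f then
        some (E ||| (1 <<< (f * k + j)) ||| (1 <<< (b * k + iv j)))
      else none
    | _, _ => none

def runSteps (T : ℕ → ℕ → ℕ) (k : ℕ) (rels : List (List ℕ)) : ℕ → List (ℕ × ℕ × ℕ) → Option ℕ
  | E, [] => some E
  | E, s :: ss =>
    match stepChk T k rels E s with
    | some E' => runSteps T k rels E' ss
    | none => none

def treeChk (T : ℕ → ℕ → ℕ) (par gam : ℕ → ℕ) (k : ℕ) : ℕ → List ℕ → Option ℕ
  | E, [] => some E
  | E, c :: cs =>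
    if par c < c && gam c < k && iv (gam c) < k && T (par c) (gam c) == c
        && T c (iv (gam c)) == par c then
      treeChk T par gam k (E ||| (1 <<< (par c * k + gam c)) ||| (1 <<< (c * k + iv (gam c)))) cs
    else none

def tableOK (n k : ℕ) (T : ℕ → ℕ → ℕ) : Bool :=
  (List.range n).all fun c => (List.range k).all fun j =>
    T c j < n && T (T c j) (iv j) == c && iv j < k

/-- The prefix of the check: table, subgroup generators, spanning tree. -/
def preChk (n k : ℕ) (T : ℕ → ℕ → ℕ) (par gam : ℕ → ℕ) (S : List ℕ) : Option ℕ :=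
  if tableOK n k T then
    match loopChk T k 0 S with
    | none => none
    | some E₁ => treeChk T par gam k E₁ (List.range' 1 (n - 1))
  else none

end defs

section sound

variable {G : Type*} [Group G]

theorem ev_invw (g : ℕ → G) (hinv : ∀ j, g j * g (iv j) = 1) (w : List ℕ) :
    ev g (invw w) = (ev g w)⁻¹ := by
  induction w with
  | nil => simp [ev, invw]
  | cons j w ih =>
    rw [invw, ev_append, ih]
    simp only [ev, mul_one, mul_inv_rev]
    rw [eq_inv_of_mul_eq_one_right (hinv j)]

theorem runSteps_append (T : ℕ → ℕ → ℕ) (k : ℕ) (rels : List (List ℕ)) :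
    ∀ (s₁ s₂ : List (ℕ × ℕ × ℕ)) (E E₁ E₂ : ℕ), runSteps T k rels E s₁ = some E₁ →
      runSteps T k rels E₁ s₂ = some E₂ → runSteps T k rels E (s₁ ++ s₂) = some E₂ := by
  intro s₁
  induction s₁ with
  | nil =>
    intro s₂ E E₁ E₂ h1 h2
    simp only [runSteps, Option.some.injEq] at h1
    subst h1
    simpa using h2
  | cons s ss ih =>
    intro s₂ E E₁ E₂ h1 h2
    simp only [runSteps, List.cons_append] at h1 ⊢
    split at h1
    · rename_i E' hs
      exact ih s₂ E' E₁ E₂ h1 h2
    · exact absurd h1 (by simp)

theorem step_sound {H : Subgroup G} {g : ℕ → G} (hinv : ∀ j, g j * g (iv j) = 1)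
    {T : ℕ → ℕ → ℕ} {r : ℕ → G} {k : ℕ} {rels : List (List ℕ)}
    (hrel : ∀ ρ ∈ rels, ev g ρ = 1) {E E' : ℕ}
    (hE : Inv H g T r k E) (s : ℕ × ℕ × ℕ) (h : stepChk T k rels E s = some E') :
    Inv H g T r k E' := by
  unfold stepChk at h
  split at h
  · exact absurd h (by simp)
  · rename_i j post hdrop
    split at h
    · rename_i f b hf hb
      split at h
      · rename_i hcond
        simp only [Bool.and_eq_true, decide_eq_true_eq, beq_iff_eq] at hcond
        obtain ⟨⟨⟨hj, hj'⟩, hTf⟩, hTb⟩ := hcond
        simp only [Option.some.injEq] at h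
        subst h
        have hρ : ev g (rels.getD s.2.1 []) = 1 := ev_getD hrel _
        have hsplit : rels.getD s.2.1 [] = (rels.getD s.2.1 []).take s.2.2 ++ j :: post := by
          rw [← hdrop, List.take_append_drop]
        have hprod : ev g ((rels.getD s.2.1 []).take s.2.2) * g j = (ev g post)⁻¹ := by
          rw [hsplit, ev_append] at hρ
          simp only [ev] at hρ
          rw [← mul_assoc] at hρ
          exact eq_inv_of_mul_eq_one_left hρ
        have h1 := walk_sound hE _ _ _ hf
        have h2 := walk_sound hE _ _ _ hb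
        rw [ev_invw g hinv] at h2
        have h3 : RelH H (r s.1 * (ev g post)⁻¹) (r f * g j) := by
          rw [← hprod, ← mul_assoc]
          exact h1.mul_right (g j)
        have hfb : RelH H (r f * g j) (r b) := h3.symm.trans h2
        have hbf : RelH H (r b * g (iv j)) (r f) := by
          have := (hfb.mul_right (g (iv j))).symm
          rwa [mul_assoc, hinv j, mul_one] at this
        refine inv_set (inv_set hE hj ?_) hj' ?_
        · rw [hTf]; exact hfb
        · rw [hTb]; exact hbf
      · exact absurd h (by simp)
    · exact absurd h (by simp)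

theorem run_sound {H : Subgroup G} {g : ℕ → G} (hinv : ∀ j, g j * g (iv j) = 1)
    {T : ℕ → ℕ → ℕ} {r : ℕ → G} {k : ℕ} {rels : List (List ℕ)}
    (hrel : ∀ ρ ∈ rels, ev g ρ = 1) :
    ∀ (steps : List (ℕ × ℕ × ℕ)) (E E' : ℕ), Inv H g T r k E →
      runSteps T k rels E steps = some E' → Inv H g T r k E' := by
  intro steps
  induction steps with
  | nil =>
    intro E E' hE h
    simp only [runSteps, Option.some.injEq] at h
    subst h; exact hE
  | cons s ss ih =>
    intro E E' hE h
    simp only [runSteps] at h
    split at h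
    · rename_i E'' hs
      exact ih E'' E' (step_sound hinv hrel hE s hs) h
    · exact absurd h (by simp)

theorem tree_sound {H : Subgroup G} {g : ℕ → G} (hinv : ∀ j, g j * g (iv j) = 1)
    {T : ℕ → ℕ → ℕ} {par gam : ℕ → ℕ} {k : ℕ} :
    ∀ (cs : List ℕ) (E E' : ℕ), Inv H g T (rep g par gam) k E →
      treeChk T par gam k E cs = some E' →
      Inv H g T (rep g par gam) k E' ∧ ∀ c ∈ cs, par c < c ∧ gam c < k := by
  intro cs
  induction cs with
  | nil =>
    intro E E' hE h
    simp only [treeChk, Option.some.injEq] at h
    subst h; exact ⟨hE, by simp⟩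
  | cons c cs ih =>
    intro E E' hE h
    simp only [treeChk] at h
    split at h
    · rename_i hcond
      simp only [Bool.and_eq_true, decide_eq_true_eq, beq_iff_eq] at hcond
      obtain ⟨⟨⟨⟨hpar, hgam⟩, hgam'⟩, hT1⟩, hT2⟩ := hcond
      have hrep := rep_eq (g := g) (gam := gam) hpar
      have hE' : Inv H g T (rep g par gam) k
          (E ||| (1 <<< (par c * k + gam c)) ||| (1 <<< (c * k + iv (gam c)))) := by
        refine inv_set (inv_set hE hgam ?_) hgam' ?_
        · rw [hT1, hrep]; exact relH_refl H _
        · rw [hT2, hrep, mul_assoc, hinv, mul_one]; exact relH_refl H _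
      obtain ⟨h1, h2⟩ := ih _ _ hE' h
      refine ⟨h1, ?_⟩
      intro c' hc'
      rcases List.mem_cons.1 hc' with rfl | hc'
      · exact ⟨hpar, hgam⟩
      · exact h2 c' hc'
    · exact absurd h (by simp)

/-- The abstract counting theorem. -/
theorem card_dvd_of_table [Finite G] (H K : Subgroup G) (k n : ℕ) (g : ℕ → G) (T : ℕ → ℕ → ℕ)
    (r : ℕ → G) (hK : K = Subgroup.closure (g '' Set.Iio k)) (hHK : H ≤ K)
    (hinv : ∀ j, g j * g (iv j) = 1) (hiv : ∀ j < k, iv j < k) (hrK : ∀ c < n, r c ∈ K)
    (hT : ∀ c < n, ∀ j < k, T c j < n) (hTT : ∀ c < n, ∀ j < k, T (T c j) (iv j) = c)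
    (hgood : ∀ c < n, ∀ j < k, RelH H (r c * g j) (r (T c j))) :
    Nat.card K ∣ n * Nat.card H := by
  classical
  have : Fintype G := Fintype.ofFinite G
  let F : G → Finset ℕ := fun u => (Finset.range n).filter (fun c => RelH H u (r c))
  have hle : ∀ (v : G) (j : ℕ), j < k → (F v).card ≤ (F (v * g j)).card := by
    intro v j hj
    apply Finset.card_le_card_of_injOn (fun c => T c j)
    · intro c hc
      have hc' := Finset.mem_filter.1 (Finset.mem_coe.1 hc)
      have hcn : c < n := Finset.mem_range.1 hc'.1
      refine Finset.mem_coe.2 (Finset.mem_filter.2 ⟨Finset.mem_range.2 (hT c hcn j hj), ?_⟩)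
      exact (hc'.2.mul_right (g j)).trans (hgood c hcn j hj)
    · intro c hc c' hc' hcc
      have h1 := Finset.mem_range.1 (Finset.mem_filter.1 (Finset.mem_coe.1 hc)).1
      have h2 := Finset.mem_range.1 (Finset.mem_filter.1 (Finset.mem_coe.1 hc')).1
      have e : T c j = T c' j := hcc
      rw [← hTT c h1 j hj, ← hTT c' h2 j hj, e]
  have hgen : ∀ (v : G) (j : ℕ), j < k → (F (v * g j)).card = (F v).card := by
    intro v j hj
    apply le_antisymm _ (hle v j hj)
    have := hle (v * g j) (iv j) (hiv j hj)
    rwa [mul_assoc, hinv j, mul_one] at this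
  have hQ : ∀ u ∈ K, ∀ v : G, (F (v * u)).card = (F v).card := by
    intro u hu
    rw [hK] at hu
    induction hu using Subgroup.closure_induction with
    | mem x hx =>
      obtain ⟨j, hj, rfl⟩ := hx
      exact fun v => hgen v j hj
    | one => intro v; rw [mul_one]
    | mul x y _ _ ihx ihy => intro v; rw [← mul_assoc, ihy, ihx]
    | inv x _ ih =>
      intro v
      have := ih (v * x⁻¹)
      rw [inv_mul_cancel_right] at this
      exact this.symm
  have hconst : ∀ u ∈ K, (F u).card = (F 1).card := by
    intro u hu
    have := hQ u hu 1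
    rwa [one_mul] at this
  let Kf : Finset G := Finset.univ.filter (· ∈ K)
  have hKcard : Nat.card K = Kf.card := by
    rw [Nat.card_eq_fintype_card, Fintype.card_subtype]
  have hcount1 : ∑ u ∈ Kf, (F u).card = Kf.card * (F 1).card := by
    rw [Finset.sum_congr rfl (fun u hu => hconst u (Finset.mem_filter.1 hu).2)]
    rw [Finset.sum_const, smul_eq_mul]
  have hcount2 : ∑ u ∈ Kf, (F u).card = n * Nat.card H := by
    have e1 : ∀ u ∈ Kf, (F u).card = ∑ c ∈ Finset.range n, if RelH H u (r c) then 1 else 0 := by
      intro u _
      rw [Finset.card_filter]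
    rw [Finset.sum_congr rfl e1, Finset.sum_comm]
    have e2 : ∀ c ∈ Finset.range n, (∑ u ∈ Kf, if RelH H u (r c) then 1 else 0) = Nat.card H := by
      intro c hc
      have hcn := Finset.mem_range.1 hc
      rw [← Finset.card_filter, Nat.card_eq_fintype_card, ← Fintype.card_coe]
      apply Fintype.card_congr
      refine ⟨fun u => ⟨u.1 * (r c)⁻¹, (Finset.mem_filter.1 u.2).2⟩,
        fun h => ⟨h.1 * r c, Finset.mem_filter.2 ⟨Finset.mem_filter.2 ⟨Finset.mem_univ _,
          K.mul_mem (hHK h.2) (hrK c hcn)⟩, ?_⟩⟩, ?_, ?_⟩
      · unfold RelH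
        rw [mul_inv_cancel_right]; exact h.2
      · intro u; apply Subtype.ext; simp
      · intro h; apply Subtype.ext; simp
    rw [Finset.sum_congr rfl e2]
    simp
  rw [hKcard]
  exact Dvd.intro _ (hcount1.symm.trans hcount2)

/-- Soundness of the checker (split form): if the prefix check gives `E₀` and the deduction
steps lead from `E₀` to the full set of edges, then the order of the group generated by the
`g j`, `j < k`, divides `n * Nat.card H`. -/
theorem card_closure_dvd [Finite G] (g : ℕ → G) (hinv : ∀ j, g j * g (iv j) = 1) (n k : ℕ)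
    (T : ℕ → ℕ → ℕ) (par gam : ℕ → ℕ) (S : List ℕ) (rels : List (List ℕ))
    (steps : List (ℕ × ℕ × ℕ)) (E₀ : ℕ) (hpre : preChk n k T par gam S = some E₀)
    (hrun : runSteps T k rels E₀ steps = some (2 ^ (n * k) - 1))
    (H : Subgroup G) (hS : ∀ j ∈ S, g j ∈ H) (hH : H ≤ Subgroup.closure (g '' Set.Iio k))
    (hrel : ∀ ρ ∈ rels, ev g ρ = 1) :
    Nat.card (Subgroup.closure (g '' Set.Iio k)) ∣ n * Nat.card H := by
  unfold preChk at hpre
  split at hpre
  · rename_i htab
    split at hpre
    · exact absurd hpre (by simp)
    · rename_i E₁ hloop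
      have hI1 : Inv H g T (rep g par gam) k E₁ :=
        loop_sound (rep_zero g par gam) S 0 E₁ hS (inv_zero H g T _ k) hloop
      obtain ⟨hI0, hpg⟩ := tree_sound hinv _ _ _ hI1 hpre
      have hI : Inv H g T (rep g par gam) k (2 ^ (n * k) - 1) :=
        run_sound hinv hrel steps _ _ hI0 hrun
      have htab' : ∀ c < n, ∀ j < k, (T c j < n ∧ T (T c j) (iv j) = c) ∧ iv j < k := by
        intro c hc j hj
        unfold tableOK at htab
        rw [List.all_eq_true] at htab
        have h1 := htab c (List.mem_range.2 hc)
        rw [List.all_eq_true] at h1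
        have h2 := h1 j (List.mem_range.2 hj)
        simpa using h2
      have hgood : ∀ c < n, ∀ j < k,
          RelH H (rep g par gam c * g j) (rep g par gam (T c j)) := by
        intro c hc j hj
        apply hI c j hj
        rw [Nat.testBit_two_pow_sub_one, decide_eq_true_eq]
        calc c * k + j < c * k + k := by omega
          _ = (c + 1) * k := by ring
          _ ≤ n * k := Nat.mul_le_mul_right k hc
      have hrK : ∀ c < n, rep g par gam c ∈ Subgroup.closure (g '' Set.Iio k) := by
        intro c
        induction c using Nat.strong_induction_on with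
        | _ c ih =>
          intro hc
          rcases Nat.eq_zero_or_pos c with rfl | hpos
          · rw [rep_zero]; exact Subgroup.one_mem _
          · have hmem : c ∈ List.range' 1 (n - 1) := by
              rw [List.mem_range']
              refine ⟨c - 1, by omega, by omega⟩
            obtain ⟨h1, h2⟩ := hpg c hmem
            rw [rep_eq h1]
            exact Subgroup.mul_mem _ (ih _ h1 (by omega))
              (Subgroup.subset_closure ⟨gam c, h2, rfl⟩)
      have hn : 0 < n ∨ n = 0 := by omega
      rcases hn with hn | hn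
      · have hiv : ∀ j < k, iv j < k := fun j hj => (htab' 0 hn j hj).2
        exact card_dvd_of_table H _ k n g T (rep g par gam) rfl hH hinv hiv hrK
          (fun c hc j hj => (htab' c hc j hj).1.1) (fun c hc j hj => (htab' c hc j hj).1.2) hgood
      · -- degenerate: no rows; then all edge bits are vacuous and the claim is about `0`
        subst hn
        simp
  · exact absurd hpre (by simp)

end sound

end CT2

end Cfsg.Agent.Helper89
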