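import Cfsg.Agent.Helper89.G24ChainB

/-! # Chain certificate for the double cover of `G₂(4)`, top level: the deductions (helper89)

Generated data. -/

set_option autoImplicit false
set_option maxRecDepth 1000000
set_option maxHeartbeats 0

namespace Cfsg.Agent.Helper89.G24c

open Cfsg.Agent.Helper89

theorem runSteps_append (T Lb : ℕ → ℕ → ℕ) (k : ℕ) (rels : List (List ℕ × ℕ)) :
    ∀ (s1 s2 : List (ℕ × ℕ × ℕ)) (E E1 : ℕ), LT.runSteps T Lb k rels E s1 = some E1 →
      LT.runSteps T Lb k rels E (s1 ++ s2) = LT.runSteps T Lb k rels E1 s2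
  | [], s2, E, E1, h => by
    simp only [LT.runSteps, Option.some.injEq] at h
    subst h
    rfl
  | s :: ss, s2, E, E1, h => by
    rw [List.cons_append, LT.runSteps]
    rw [LT.runSteps] at h
    cases hs : LT.stepChk T Lb k rels E s with
    | none =>
      rw [hs] at h
      simp at h
    | some E' =>
      rw [hs] at h
      exact runSteps_append T Lb k rels ss s2 E' E1 h

theorem L3_run0 : LT.runSteps L3.T L3.Lb L3.k (Level.relsOf L3.ex L3.ws) L3m0 L3seg0 =
    some L3m1 := by decide +kernel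

theorem L3_run1 : LT.runSteps L3.T L3.Lb L3.k (Level.relsOf L3.ex L3.ws) L3m1 L3seg1 =
    some L3m2 := by decide +kernel

theorem L3_run2 : LT.runSteps L3.T L3.Lb L3.k (Level.relsOf L3.ex L3.ws) L3m2 L3seg2 =
    some L3m3 := by decide +kernel

theorem L3_run3 : LT.runSteps L3.T L3.Lb L3.k (Level.relsOf L3.ex L3.ws) L3m3 L3seg3 =
    some L3m4 := by decide +kernel

theorem L3_run4 : LT.runSteps L3.T L3.Lb L3.k (Level.relsOf L3.ex L3.ws) L3m4 L3seg4 =
    some L3m5 := by decide +kernel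

theorem L3_run5 : LT.runSteps L3.T L3.Lb L3.k (Level.relsOf L3.ex L3.ws) L3m5 L3seg5 =
    some L3m6 := by decide +kernel

theorem L3_run6 : LT.runSteps L3.T L3.Lb L3.k (Level.relsOf L3.ex L3.ws) L3m6 L3seg6 =
    some L3m7 := by decide +kernel

theorem L3_run7 : LT.runSteps L3.T L3.Lb L3.k (Level.relsOf L3.ex L3.ws) L3m7 L3seg7 =
    some L3m8 := by decide +kernel

theorem L3_run8 : LT.runSteps L3.T L3.Lb L3.k (Level.relsOf L3.ex L3.ws) L3m8 L3seg8 =
    some L3m9 := by decide +kernel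

theorem L3_run9 : LT.runSteps L3.T L3.Lb L3.k (Level.relsOf L3.ex L3.ws) L3m9 L3seg9 =
    some L3m10 := by decide +kernel

theorem L3_run10 : LT.runSteps L3.T L3.Lb L3.k (Level.relsOf L3.ex L3.ws) L3m10 L3seg10 =
    some L3m11 := by decide +kernel

theorem L3_run11 : LT.runSteps L3.T L3.Lb L3.k (Level.relsOf L3.ex L3.ws) L3m11 L3seg11 =
    some L3m12 := by decide +kernel

theorem L3_mfin : L3m12 = 2 ^ (L3.n * L3.k) - 1 := by decide +kernel

theorem L3_run : LT.runSteps L3.T L3.Lb L3.k (Level.relsOf L3.ex L3.ws) L3.E₀ L3.steps =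
    some (2 ^ (L3.n * L3.k) - 1) := by
  show LT.runSteps L3.T L3.Lb L3.k (Level.relsOf L3.ex L3.ws) L3m0
    (L3seg0 ++ (L3seg1 ++ (L3seg2 ++ (L3seg3 ++ (L3seg4 ++ (L3seg5 ++ (L3seg6 ++ (L3seg7 ++ (L3seg8 ++ (L3seg9 ++ (L3seg10 ++ (L3seg11 ++ [])))))))))))) = _
  rw [runSteps_append _ _ _ _ _ _ _ _ L3_run0, runSteps_append _ _ _ _ _ _ _ _ L3_run1, runSteps_append _ _ _ _ _ _ _ _ L3_run2, runSteps_append _ _ _ _ _ _ _ _ L3_run3, runSteps_append _ _ _ _ _ _ _ _ L3_run4, runSteps_append _ _ _ _ _ _ _ _ L3_run5, runSteps_append _ _ _ _ _ _ _ _ L3_run6, runSteps_append _ _ _ _ _ _ _ _ L3_run7, runSteps_append _ _ _ _ _ _ _ _ L3_run8, runSteps_append _ _ _ _ _ _ _ _ L3_run9, runSteps_append _ _ _ _ _ _ _ _ L3_run10, runSteps_append _ _ _ _ _ _ _ _ L3_run11, ← L3_mfin]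
  rfl

end Cfsg.Agent.Helper89.G24c
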