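import Cfsg.Agent.Helper89.PermLB
import Cfsg.Agent.Helper93.HsOutConc

/-!
# Generators of the Higman–Sims group (helper89)

Four automorphisms of odd order of helper93's copy of the Higman–Sims graph (orders 5, 5, 3, 3),
and five further elements given by words in them, as elements of the group `hsN` of even
automorphisms; `HsM.gL` are the tables of their actions on the 100 vertices.  A stabiliser chain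
(`PLB.card_ge`) shows that they generate `hsN`.
-/

set_option autoImplicit false
set_option maxRecDepth 100000

namespace Cfsg.Agent.Helper89.HsM

open Cfsg Subgroup Cfsg.Agent.Helper93 Cfsg.Agent.Helper93.HsOut

/-- The images of the 100 vertices under the 18 symbols. -/
def gL : List (List ℕ) := [
  [95, 57, 12, 26, 21, 67, 29, 77, 33, 81, 73, 24, 35, 45, 60, 44, 16, 8, 31, 53, 91, 20, 10, 62, 75, 38, 36, 64, 63, 72, 17, 2, 32, 39, 69, 18, 9, 87, 80, 30, 11, 15, 28, 82, 86, 89, 66, 74, 23, 99, 0, 49, 51, 34, 56, 97, 71, 92, 58, 40, 78, 90, 61, 76, 7, 14, 1, 13, 65, 85, 70, 96, 55, 37, 50, 59, 94, 84, 68, 52, 43, 3, 25, 83, 27, 19, 98, 22, 54, 5, 48, 93, 46, 4, 42, 47, 88, 6, 41, 79],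
  [50, 66, 31, 81, 93, 89, 97, 64, 17, 36, 22, 40, 2, 67, 65, 41, 16, 30, 35, 85, 21, 4, 87, 48, 11, 82, 3, 84, 42, 6, 39, 18, 32, 8, 53, 12, 26, 73, 25, 33, 59, 98, 94, 80, 15, 13, 92, 95, 90, 51, 74, 52, 79, 19, 88, 72, 54, 1, 58, 75, 14, 62, 23, 28, 27, 68, 46, 5, 78, 34, 70, 56, 29, 10, 47, 24, 63, 7, 60, 99, 38, 9, 43, 83, 77, 69, 44, 37, 96, 45, 61, 20, 57, 91, 76, 0, 71, 55, 86, 49],
  [52, 60, 33, 8, 30, 89, 7, 34, 18, 31, 42, 5, 21, 76, 62, 70, 97, 80, 2, 98, 38, 91, 71, 95, 56, 9, 4, 85, 96, 27, 93, 36, 6, 3, 86, 82, 43, 40, 39, 17, 59, 58, 13, 25, 83, 87, 66, 46, 1, 99, 14, 68, 47, 15, 88, 64, 63, 51, 55, 22, 92, 49, 78, 28, 69, 79, 0, 54, 65, 41, 72, 37, 77, 10, 50, 94, 73, 53, 74, 57, 20, 26, 12, 29, 19, 44, 32, 67, 45, 75, 48, 35, 90, 81, 11, 61, 24, 84, 16, 23],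
  [66, 48, 18, 33, 26, 11, 32, 6, 3, 25, 73, 94, 82, 42, 50, 53, 98, 39, 8, 84, 80, 12, 59, 99, 96, 43, 81, 29, 63, 83, 4, 9, 86, 2, 7, 91, 31, 71, 20, 38, 37, 69, 10, 36, 85, 88, 47, 52, 90, 61, 74, 57, 0, 77, 67, 58, 24, 79, 41, 40, 1, 95, 14, 56, 55, 68, 46, 87, 51, 64, 15, 22, 70, 76, 78, 89, 13, 72, 62, 65, 17, 93, 35, 44, 97, 27, 34, 45, 54, 5, 92, 21, 60, 30, 75, 23, 28, 16, 19, 49],
  [96, 60, 84, 32, 55, 68, 15, 97, 64, 16, 51, 75, 30, 48, 23, 34, 26, 35, 18, 44, 8, 19, 22, 56, 40, 17, 9, 27, 13, 58, 93, 4, 36, 82, 6, 25, 3, 59, 86, 39, 52, 43, 95, 85, 21, 45, 5, 66, 28, 10, 62, 49, 24, 38, 76, 31, 14, 47, 77, 87, 71, 67, 92, 89, 20, 54, 57, 88, 46, 91, 70, 1, 33, 11, 74, 73, 65, 29, 42, 79, 2, 81, 72, 7, 80, 41, 53, 37, 61, 94, 0, 98, 50, 12, 63, 78, 90, 83, 69, 99],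
  [90, 71, 80, 36, 31, 46, 34, 83, 20, 26, 49, 73, 93, 28, 56, 6, 9, 25, 18, 21, 64, 44, 22, 14, 52, 35, 16, 27, 48, 77, 12, 55, 3, 72, 15, 17, 32, 87, 53, 39, 24, 85, 78, 41, 19, 45, 68, 57, 13, 51, 92, 10, 40, 86, 65, 4, 23, 66, 29, 37, 1, 88, 50, 94, 8, 76, 47, 61, 5, 98, 70, 60, 82, 75, 74, 11, 54, 58, 95, 79, 84, 81, 33, 97, 2, 43, 38, 59, 67, 63, 96, 69, 62, 30, 89, 42, 0, 7, 91, 99],
  [73, 58, 97, 43, 41, 95, 5, 47, 90, 69, 38, 7, 54, 70, 15, 23, 66, 17, 27, 19, 55, 30, 4, 14, 63, 12, 37, 28, 18, 60, 65, 87, 10, 76, 68, 35, 31, 83, 32, 78, 2, 22, 42, 94, 45, 72, 46, 11, 13, 9, 50, 29, 20, 24, 25, 52, 39, 88, 61, 96, 51, 1, 62, 53, 16, 21, 64, 89, 92, 49, 48, 98, 44, 91, 8, 86, 82, 75, 56, 71, 59, 81, 33, 26, 57, 67, 77, 36, 84, 85, 74, 0, 34, 93, 3, 6, 80, 40, 79, 99],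
  [91, 61, 40, 94, 22, 6, 95, 11, 74, 49, 32, 47, 25, 48, 23, 14, 64, 17, 28, 19, 52, 65, 41, 15, 53, 54, 83, 18, 27, 51, 21, 36, 38, 82, 92, 35, 87, 26, 10, 56, 97, 4, 42, 3, 72, 44, 46, 7, 70, 69, 50, 60, 55, 63, 12, 20, 78, 84, 1, 80, 29, 58, 62, 24, 66, 30, 16, 85, 34, 9, 13, 79, 45, 0, 90, 77, 33, 86, 39, 98, 96, 81, 76, 37, 88, 89, 75, 31, 57, 67, 8, 73, 68, 93, 43, 5, 59, 2, 71, 99],
  [71, 48, 77, 3, 52, 78, 39, 15, 90, 27, 32, 14, 41, 85, 53, 24, 72, 17, 87, 35, 12, 16, 55, 63, 7, 4, 37, 36, 31, 29, 66, 69, 38, 2, 91, 81, 9, 83, 10, 96, 86, 20, 99, 43, 30, 65, 46, 23, 89, 18, 42, 51, 25, 11, 22, 54, 59, 84, 13, 95, 60, 70, 62, 47, 45, 64, 44, 61, 0, 28, 67, 68, 21, 98, 8, 76, 97, 33, 80, 34, 5, 19, 40, 26, 88, 58, 82, 49, 57, 1, 74, 79, 73, 93, 94, 56, 6, 75, 92, 50],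
  [68, 89, 33, 3, 25, 80, 96, 24, 74, 36, 38, 53, 20, 58, 11, 7, 21, 17, 49, 81, 41, 72, 54, 47, 15, 52, 83, 9, 69, 29, 44, 28, 10, 77, 79, 19, 27, 26, 32, 6, 82, 12, 50, 43, 66, 64, 46, 63, 1, 87, 99, 51, 4, 14, 55, 22, 95, 88, 85, 56, 60, 67, 62, 23, 65, 45, 30, 70, 71, 31, 61, 0, 16, 92, 90, 97, 75, 2, 5, 91, 78, 35, 86, 37, 57, 13, 40, 18, 84, 48, 8, 34, 98, 93, 94, 59, 39, 76, 73, 42],
  [11, 70, 55, 43, 86, 78, 56, 34, 57, 27, 83, 68, 97, 85, 0, 91, 44, 93, 31, 35, 76, 66, 77, 73, 79, 40, 10, 36, 87, 51, 16, 49, 26, 22, 24, 81, 9, 32, 37, 59, 52, 75, 99, 3, 21, 65, 62, 92, 67, 28, 42, 29, 82, 71, 2, 33, 96, 74, 13, 6, 60, 48, 46, 98, 45, 64, 72, 1, 53, 18, 89, 14, 30, 47, 88, 12, 41, 54, 80, 15, 5, 19, 4, 38, 8, 58, 25, 69, 90, 61, 84, 7, 63, 17, 94, 39, 95, 20, 23, 50],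
  [14, 67, 54, 43, 82, 80, 59, 91, 84, 36, 26, 0, 75, 58, 71, 79, 30, 93, 69, 81, 97, 44, 33, 98, 34, 86, 32, 9, 49, 51, 72, 18, 37, 55, 7, 19, 27, 38, 83, 95, 25, 76, 50, 3, 16, 64, 62, 73, 61, 31, 99, 29, 40, 68, 77, 2, 6, 8, 85, 39, 60, 89, 46, 92, 65, 45, 21, 48, 11, 87, 1, 53, 66, 23, 57, 41, 20, 22, 5, 24, 78, 35, 52, 10, 90, 13, 4, 28, 74, 70, 88, 15, 47, 17, 94, 96, 56, 12, 63, 42],
  [95, 57, 12, 26, 21, 67, 29, 77, 33, 81, 73, 24, 35, 45, 60, 44, 16, 8, 31, 53, 91, 20, 10, 62, 75, 38, 36, 64, 63, 72, 17, 2, 32, 39, 69, 18, 9, 87, 80, 30, 11, 15, 28, 82, 86, 89, 66, 74, 23, 99, 0, 49, 51, 34, 56, 97, 71, 92, 58, 40, 78, 90, 61, 76, 7, 14, 1, 13, 65, 85, 70, 96, 55, 37, 50, 59, 94, 84, 68, 52, 43, 3, 25, 83, 27, 19, 98, 22, 54, 5, 48, 93, 46, 4, 42, 47, 88, 6, 41, 79],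
  [50, 66, 31, 81, 93, 89, 97, 64, 17, 36, 22, 40, 2, 67, 65, 41, 16, 30, 35, 85, 21, 4, 87, 48, 11, 82, 3, 84, 42, 6, 39, 18, 32, 8, 53, 12, 26, 73, 25, 33, 59, 98, 94, 80, 15, 13, 92, 95, 90, 51, 74, 52, 79, 19, 88, 72, 54, 1, 58, 75, 14, 62, 23, 28, 27, 68, 46, 5, 78, 34, 70, 56, 29, 10, 47, 24, 63, 7, 60, 99, 38, 9, 43, 83, 77, 69, 44, 37, 96, 45, 61, 20, 57, 91, 76, 0, 71, 55, 86, 49],
  [52, 60, 33, 8, 30, 89, 7, 34, 18, 31, 42, 5, 21, 76, 62, 70, 97, 80, 2, 98, 38, 91, 71, 95, 56, 9, 4, 85, 96, 27, 93, 36, 6, 3, 86, 82, 43, 40, 39, 17, 59, 58, 13, 25, 83, 87, 66, 46, 1, 99, 14, 68, 47, 15, 88, 64, 63, 51, 55, 22, 92, 49, 78, 28, 69, 79, 0, 54, 65, 41, 72, 37, 77, 10, 50, 94, 73, 53, 74, 57, 20, 26, 12, 29, 19, 44, 32, 67, 45, 75, 48, 35, 90, 81, 11, 61, 24, 84, 16, 23],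
  [66, 48, 18, 33, 26, 11, 32, 6, 3, 25, 73, 94, 82, 42, 50, 53, 98, 39, 8, 84, 80, 12, 59, 99, 96, 43, 81, 29, 63, 83, 4, 9, 86, 2, 7, 91, 31, 71, 20, 38, 37, 69, 10, 36, 85, 88, 47, 52, 90, 61, 74, 57, 0, 77, 67, 58, 24, 79, 41, 40, 1, 95, 14, 56, 55, 68, 46, 87, 51, 64, 15, 22, 70, 76, 78, 89, 13, 72, 62, 65, 17, 93, 35, 44, 97, 27, 34, 45, 54, 5, 92, 21, 60, 30, 75, 23, 28, 16, 19, 49],
  [47, 92, 18, 3, 93, 89, 86, 34, 33, 36, 73, 75, 35, 13, 78, 72, 16, 39, 2, 84, 20, 91, 37, 61, 24, 43, 81, 85, 63, 44, 30, 31, 32, 8, 7, 12, 9, 22, 80, 17, 59, 55, 76, 25, 29, 67, 66, 0, 90, 99, 74, 79, 52, 77, 88, 41, 96, 57, 58, 40, 60, 23, 62, 28, 69, 68, 46, 45, 65, 64, 70, 71, 15, 10, 50, 11, 42, 53, 14, 51, 38, 26, 82, 83, 19, 27, 6, 87, 54, 5, 48, 21, 1, 4, 94, 95, 56, 98, 97, 49],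
  [47, 92, 18, 3, 93, 89, 86, 34, 33, 36, 73, 75, 35, 13, 78, 72, 16, 39, 2, 84, 20, 91, 37, 61, 24, 43, 81, 85, 63, 44, 30, 31, 32, 8, 7, 12, 9, 22, 80, 17, 59, 55, 76, 25, 29, 67, 66, 0, 90, 99, 74, 79, 52, 77, 88, 41, 96, 57, 58, 40, 60, 23, 62, 28, 69, 68, 46, 45, 65, 64, 70, 71, 15, 10, 50, 11, 42, 53, 14, 51, 38, 26, 82, 83, 19, 27, 6, 87, 54, 5, 48, 21, 1, 4, 94, 95, 56, 98, 97, 49]]

/-- The extra generators as words in the first four. -/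
def exW : List (List ℕ) := [[4, 0, 4, 3, 6, 0, 6, 0, 0], [0, 4, 6, 0, 2, 2, 1, 0, 5, 1, 2, 6, 1, 7, 2], [0], [2], [4, 1, 1, 5, 1, 5, 0, 4]]

theorem gL_lt : ∀ k : Fin 8, ∀ x : Fin 100, (gL.getD k.val []).getD x.val 0 < 100 := by decide +kernel

theorem i1_0 : ∀ i : Fin 100, lf (gL.getD 1 []) (lf (gL.getD 0 []) i) = i := by decide +kernel

theorem i2_0 : ∀ i : Fin 100, lf (gL.getD 0 []) (lf (gL.getD 1 []) i) = i := by decide +kernel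

theorem adj_0 : ∀ i j : Fin 100,
    hsAdjB (lf (gL.getD 0 []) i).val (lf (gL.getD 0 []) j).val = hsAdjB i.val j.val := by decide +kernel

theorem pow_0 : ∀ i : Fin 100, (lf (gL.getD 0 []))^[5] i = i := by decide +kernel

def p0 : Equiv.Perm (Fin 100) := mkP (gL.getD 0 []) (gL.getD 1 []) i1_0 i2_0

theorem p0_mem : p0 ∈ hsN :=
  mem_hsN.mpr ⟨mkP_mem _ _ _ _ adj_0, sign_of_odd_pow _ 5 (by decide) (mkP_pow _ _ _ _ 5 pow_0)⟩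

theorem i1_1 : ∀ i : Fin 100, lf (gL.getD 3 []) (lf (gL.getD 2 []) i) = i := by decide +kernel

theorem i2_1 : ∀ i : Fin 100, lf (gL.getD 2 []) (lf (gL.getD 3 []) i) = i := by decide +kernel

theorem adj_1 : ∀ i j : Fin 100,
    hsAdjB (lf (gL.getD 2 []) i).val (lf (gL.getD 2 []) j).val = hsAdjB i.val j.val := by decide +kernel

theorem pow_1 : ∀ i : Fin 100, (lf (gL.getD 2 []))^[5] i = i := by decide +kernel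

def p1 : Equiv.Perm (Fin 100) := mkP (gL.getD 2 []) (gL.getD 3 []) i1_1 i2_1

theorem p1_mem : p1 ∈ hsN :=
  mem_hsN.mpr ⟨mkP_mem _ _ _ _ adj_1, sign_of_odd_pow _ 5 (by decide) (mkP_pow _ _ _ _ 5 pow_1)⟩

theorem i1_2 : ∀ i : Fin 100, lf (gL.getD 5 []) (lf (gL.getD 4 []) i) = i := by decide +kernel

theorem i2_2 : ∀ i : Fin 100, lf (gL.getD 4 []) (lf (gL.getD 5 []) i) = i := by decide +kernel

theorem adj_2 : ∀ i j : Fin 100,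
    hsAdjB (lf (gL.getD 4 []) i).val (lf (gL.getD 4 []) j).val = hsAdjB i.val j.val := by decide +kernel

theorem pow_2 : ∀ i : Fin 100, (lf (gL.getD 4 []))^[3] i = i := by decide +kernel

def p2 : Equiv.Perm (Fin 100) := mkP (gL.getD 4 []) (gL.getD 5 []) i1_2 i2_2

theorem p2_mem : p2 ∈ hsN :=
  mem_hsN.mpr ⟨mkP_mem _ _ _ _ adj_2, sign_of_odd_pow _ 3 (by decide) (mkP_pow _ _ _ _ 3 pow_2)⟩

theorem i1_3 : ∀ i : Fin 100, lf (gL.getD 7 []) (lf (gL.getD 6 []) i) = i := by decide +kernel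

theorem i2_3 : ∀ i : Fin 100, lf (gL.getD 6 []) (lf (gL.getD 7 []) i) = i := by decide +kernel

theorem adj_3 : ∀ i j : Fin 100,
    hsAdjB (lf (gL.getD 6 []) i).val (lf (gL.getD 6 []) j).val = hsAdjB i.val j.val := by decide +kernel

theorem pow_3 : ∀ i : Fin 100, (lf (gL.getD 6 []))^[3] i = i := by decide +kernel

def p3 : Equiv.Perm (Fin 100) := mkP (gL.getD 6 []) (gL.getD 7 []) i1_3 i2_3

theorem p3_mem : p3 ∈ hsN :=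
  mem_hsN.mpr ⟨mkP_mem _ _ _ _ adj_3, sign_of_odd_pow _ 3 (by decide) (mkP_pow _ _ _ _ 3 pow_3)⟩

def bs : List (Equiv.Perm (Fin 100)) := [p0, p1, p2, p3]

def gs4 : List ↥hsN := [⟨p0, p0_mem⟩, ⟨p1, p1_mem⟩, ⟨p2, p2_mem⟩, ⟨p3, p3_mem⟩]

/-- The generators: the four automorphisms and the values of the words `exW`. -/
def gsH : List ↥hsN := gs4 ++ exW.map (ev (gl gs4))

theorem ext_ok : PLB.extOK 100 4 exW gL = true := by decide +kernel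

theorem hb : ∀ i < bs.length, ∀ x : Fin 100, ((bs.getD i 1) x).val = PLB.tb gL (2 * i) x.val := by
  intro i hi x
  have hi' : i < 4 := hi
  interval_cases i
  · exact Nat.mod_eq_of_lt (gL_lt 0 x)
  · exact Nat.mod_eq_of_lt (gL_lt 2 x)
  · exact Nat.mod_eq_of_lt (gL_lt 4 x)
  · exact Nat.mod_eq_of_lt (gL_lt 6 x)

theorem isTab : PLB.IsTab (gl (gsH.map hsN.subtype)) gL := by
  rw [gsH, PLB.map_ext]
  exact PLB.isTab_ext bs exW gL hb ext_ok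

/-- The word acts trivially on the 100 vertices. -/
abbrev mok (w : List ℕ) : Bool := PLB.relOK 100 gL w

theorem ev_eq_one (w : List ℕ) (h : mok w = true) : ev (gl gsH) w = 1 :=
  PLB.sub_ev_eq_one hsN gsH w (PLB.ev_eq_one_of_tab _ gL isTab w h)

theorem rels_hold (ws : List (List ℕ)) (h : ws.all mok = true) : ∀ w ∈ ws, ev (gl gsH) w = 1 :=
  fun w hw => ev_eq_one w (List.all_eq_true.1 h w hw)

/-! ### The stabiliser chain -/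

def D0 : PLB.Lvl where
  LL := gL
  b := 0
  U := [[], [0, 3], [6, 5, 2], [3, 7, 5], [5, 7, 2], [7, 0], [6, 0], [7, 0, 0], [7, 5], [5, 7, 3], [1, 6], [4, 6], [4, 0, 7], [2, 5, 0], [2, 1], [7, 3, 0], [7, 3], [3, 6, 4], [6, 3, 4], [4, 3, 7], [6, 2], [3, 7], [3, 1, 4], [3, 0], [4, 2], [4, 2, 7], [4, 7, 3], [1, 6, 3], [3, 4], [0, 6, 0], [3, 0, 7], [4, 7, 2], [3, 6, 0], [0, 7, 5], [5, 6, 0], [2, 7], [4, 3, 6, 0], [0, 6], [2, 6, 2], [7, 4, 0], [5, 2], [0, 4, 7], [5, 0], [0, 6, 4], [5, 3, 7], [2, 0, 4], [1, 3], [0, 0], [0, 5], [2, 2, 0], [1], [0, 2], [2], [7, 4, 2], [0, 0, 4], [7, 2], [4, 3, 0], [4, 3], [7, 2, 0], [7, 4], [1, 4, 0], [2, 0], [4, 1], [6, 4, 2], [6, 3], [1, 2, 1], [3], [4, 2, 0], [0, 4, 0], [5, 7], [7, 0, 5], [1, 4], [1, 7, 2], [6], [1, 1], [5, 6], [3, 6], [7, 5, 6], [4, 0], [1, 2], [6, 4], [2, 0,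 7], [6, 3, 6], [6, 0, 6], [7, 4, 3], [0, 5, 7], [6, 5, 6], [4, 7, 4], [0, 4], [1, 7, 0], [5], [7], [5, 1], [0, 7], [1, 5, 0], [0], [4], [1, 6, 0], [4, 7], [3, 3, 0]]
  W := [[3, 5, 7, 4, 1, 5, 0], [1, 4, 0, 5, 6, 4, 2], [5, 2, 0, 5, 0], [1, 4, 1, 3, 4]]

def D1 : PLB.Lvl where
  LL := [
    [0, 7, 1, 16, 14, 11, 17, 20, 22, 3, 6, 21, 4, 15, 18, 9, 5, 12, 2, 13, 10, 8, 19, 28, 26, 35, 40, 39, 82, 56, 88, 94, 93, 67, 75, 68, 77, 92, 73, 87, 48, 45, 64, 52, 43, 42, 38, 25, 30, 33, 36, 34, 27, 31, 29, 37, 32, 23, 24, 41, 71, 54, 80, 83, 76, 70, 50, 47, 95, 96, 63, 74, 91, 97, 44, 79, 84, 59, 69, 58, 81, 57, 85, 86, 66, 55, 78, 98, 51, 60, 46, 99, 62, 90, 65, 72, 53, 61, 89, 49],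
    [0, 2, 18, 9, 12, 16, 10, 1, 21, 15, 20, 5, 17, 19, 4, 13, 3, 6, 14, 22, 7, 11, 8, 57, 58, 47, 24, 52, 23, 54, 48, 53, 56, 49, 51, 25, 50, 55, 46, 27, 26, 59, 45, 44, 74, 41, 90, 67, 40, 99, 66, 88, 43, 96, 61, 85, 29, 81, 79, 77, 89, 97, 92, 70, 42, 94, 84, 33, 35, 78, 65, 60, 95, 38, 71, 34, 64, 36, 86, 75, 62, 80, 28, 63, 76, 82, 83, 39, 30, 98, 93, 72, 37, 32, 31, 68, 69, 73, 87, 91],
    [0, 1, 12, 7, 3, 13, 21, 4, 8, 20, 22, 5, 18, 11, 10, 6, 16, 17, 2, 9, 19, 15, 14, 40, 23, 38, 34, 36, 28, 26, 39, 35, 31, 30, 29, 32, 41, 37, 43, 33, 24, 27, 42, 25, 64, 75, 92, 56, 62, 66, 71, 99, 49, 97, 95, 86, 74, 51, 58, 89, 68, 45, 67, 94, 77, 87, 52, 48, 73, 93, 82, 88, 69, 60, 47, 61, 63, 44, 65, 46, 70, 55, 80, 83, 98, 53, 81, 78, 50, 90, 59, 84, 79, 72, 76, 96, 54, 85, 91, 57],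
    [0, 1, 18, 4, 7, 11, 15, 3, 8, 19, 14, 13, 2, 5, 22, 21, 16, 17, 12, 20, 9, 6, 10, 24, 40, 43, 29, 41, 28, 34, 33, 32, 35, 39, 26, 31, 27, 37, 25, 30, 23, 36, 42, 38, 77, 61, 79, 74, 67, 52, 88, 57, 66, 85, 96, 81, 47, 99, 58, 90, 73, 75, 48, 76, 44, 78, 49, 62, 60, 72, 80, 50, 93, 68, 56, 45, 94, 64, 87, 92, 82, 86, 70, 83, 91, 97, 55, 65, 71, 59, 89, 98, 46, 69, 63, 54, 95, 53, 84, 51]]
  b := 2
  U := [[0], [], [3, 0, 0], [0, 2], [0, 0, 3, 0, 0], [1, 1, 2], [0, 0], [1, 3, 1, 1], [3, 0, 0, 0], [2, 1, 1], [1, 2, 1, 1, 2], [2], [0, 2, 0, 0, 0], [1, 1], [3, 1, 1, 2], [0, 3, 0, 0], [1, 2], [1], [2, 0, 0, 0], [0, 0, 0], [2, 1, 1, 2], [3, 1, 1]]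
  W := [[3, 0, 0, 2, 0, 0, 2, 0, 0, 0], [1, 1, 1, 3, 1, 1, 3, 1, 1, 2], [0, 0, 0, 0, 2], [3, 1, 1, 1, 1]]

def D2 : PLB.Lvl where
  LL := [
    [0, 8, 2, 4, 17, 16, 19, 18, 20, 15, 9, 22, 12, 5, 21, 6, 14, 7, 3, 10, 11, 13, 1, 49, 46, 54, 52, 27, 79, 28, 78, 72, 83, 37, 92, 96, 95, 87, 36, 41, 66, 65, 93, 69, 50, 24, 48, 44, 57, 51, 26, 56, 47, 25, 59, 53, 58, 45, 23, 55, 73, 60, 34, 80, 74, 76, 62, 61, 77, 32, 33, 75, 42, 88, 71, 99, 91, 29, 98, 68, 84, 63, 43, 82, 94, 70, 38, 85, 67, 89, 31, 39, 40, 90, 81, 97, 30, 86, 35, 64],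
    [0, 22, 2, 18, 3, 13, 15, 17, 1, 10, 19, 20, 12, 21, 16, 9, 5, 4, 7, 6, 8, 14, 11, 58, 45, 53, 50, 27, 29, 77, 96, 90, 69, 70, 62, 98, 38, 33, 86, 91, 92, 39, 72, 82, 47, 57, 24, 52, 46, 23, 44, 49, 26, 55, 25, 59, 51, 48, 56, 54, 61, 67, 66, 81, 99, 41, 40, 88, 79, 43, 85, 74, 31, 60, 64, 71, 65, 68, 30, 28, 63, 94, 83, 32, 80, 87, 97, 37, 73, 89, 93, 76, 34, 42, 84, 36, 35, 95, 78, 75],
    [0, 6, 2, 17, 21, 16, 13, 1, 15, 12, 9, 22, 20, 19, 4, 14, 8, 18, 10, 11, 3, 5, 7, 51, 55, 54, 24, 45, 37, 88, 60, 91, 63, 75, 90, 38, 76, 81, 87, 35, 30, 89, 66, 72, 50, 26, 57, 46, 23, 59, 52, 47, 25, 56, 49, 53, 27, 58, 48, 44, 99, 84, 68, 83, 42, 71, 98, 34, 29, 73, 92, 79, 94, 43, 95, 32, 69, 39, 86, 61, 78, 80, 28, 96, 74, 70, 82, 31, 41, 97, 64, 77, 40, 33, 36, 65, 93, 62, 67, 85],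
    [0, 7, 2, 20, 14, 21, 1, 22, 16, 10, 18, 19, 9, 6, 15, 8, 5, 3, 17, 13, 12, 4, 11, 48, 26, 52, 45, 56, 82, 68, 40, 87, 75, 93, 67, 39, 94, 28, 35, 77, 92, 88, 64, 73, 59, 27, 47, 51, 58, 54, 44, 23, 50, 55, 25, 24, 53, 46, 57, 49, 30, 79, 97, 32, 90, 95, 42, 98, 62, 76, 85, 65, 43, 69, 84, 33, 36, 91, 80, 71, 81, 37, 86, 63, 61, 99, 78, 38, 29, 41, 34, 31, 70, 96, 72, 74, 83, 89, 66, 60]]
  b := 1
  U := [[], [2, 0, 0], [1, 1, 3], [1, 3, 0], [2], [3], [0], [1, 2, 0], [0, 0, 2], [1, 1], [3, 0, 0], [2, 2], [2, 2, 0], [2, 0], [3, 0], [1, 3], [0, 3], [0, 2], [0, 0], [1, 2, 2], [1]]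
  W := [[1, 3, 1, 2], [3, 0, 2, 0], [2, 0, 2, 2, 0, 0], [1, 1, 3, 3, 1, 3]]

def D3 : PLB.Lvl where
  LL := [
    [0, 1, 2, 16, 9, 14, 3, 20, 19, 10, 7, 6, 5, 22, 8, 13, 17, 11, 21, 12, 4, 15, 18, 25, 23, 26, 27, 24, 42, 43, 28, 38, 33, 41, 35, 30, 36, 31, 29, 40, 32, 39, 34, 37, 54, 47, 56, 50, 48, 53, 57, 44, 59, 58, 46, 45, 51, 55, 52, 49, 70, 94, 74, 71, 82, 80, 63, 95, 76, 96, 88, 83, 67, 97, 84, 65, 60, 90, 89, 78, 92, 69, 79, 91, 93, 75, 81, 62, 68, 64, 61, 66, 85, 87, 98, 73, 99, 72, 77, 86],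
    [0, 1, 2, 6, 20, 12, 11, 10, 14, 4, 9, 17, 19, 15, 5, 21, 3, 16, 22, 8, 7, 18, 13, 24, 27, 23, 25, 26, 30, 38, 35, 37, 40, 32, 42, 34, 36, 43, 31, 41, 39, 33, 28, 29, 51, 55, 54, 45, 48, 59, 47, 56, 58, 49, 44, 57, 46, 50, 53, 52, 76, 90, 87, 66, 89, 75, 91, 72, 88, 81, 60, 63, 97, 95, 62, 85, 68, 98, 79, 82, 65, 86, 64, 71, 74, 92, 99, 93, 70, 78, 77, 83, 80, 84, 61, 67, 69, 73, 94, 96],
    [0, 1, 2, 12, 11, 19, 20, 17, 10, 9, 18, 16, 21, 13, 7, 6, 4, 14, 8, 22, 15, 3, 5, 23, 27, 24, 26, 25, 34, 36, 40, 38, 31, 35, 43, 42, 39, 30, 32, 29, 37, 41, 33, 28, 56, 51, 58, 49, 57, 55, 44, 59, 46, 53, 48, 47, 50, 54, 52, 45, 97, 66, 86, 62, 99, 89, 95, 92, 71, 64, 74, 75, 85, 91, 78, 68, 76, 83, 70, 93, 77, 87, 73, 80, 67, 96, 63, 98, 79, 90, 65, 82, 84, 88, 60, 61, 72, 94, 81, 69],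
    [0, 1, 2, 21, 16, 22, 15, 14, 18, 9, 8, 4, 3, 13, 17, 20, 11, 7, 10, 5, 6, 12, 19, 23, 25, 27, 26, 24, 43, 39, 37, 32, 38, 42, 28, 33, 29, 40, 31, 36, 30, 41, 35, 34, 50, 59, 52, 55, 54, 47, 56, 45, 58, 53, 57, 49, 44, 48, 46, 51, 94, 95, 63, 86, 69, 90, 61, 84, 75, 99, 78, 68, 96, 82, 70, 71, 76, 80, 74, 88, 83, 98, 91, 77, 92, 72, 62, 81, 93, 65, 89, 73, 67, 79, 97, 66, 85, 60, 87, 64]]
  b := 3
  U := [[], [2, 0], [0, 2], [1], [3, 0, 0], [1, 1, 2], [0, 2, 0], [3, 1, 3], [3, 0], [2], [0, 3, 1], [2, 0, 0], [3, 1], [0], [0, 0], [1, 3], [1, 2], [2, 1], [3], [3, 0, 2]]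
  W := [[1, 2, 0, 0, 0], [1, 1, 1, 3, 0], [3, 0, 0, 2, 1, 3], [2, 0, 3, 1, 1, 2], [1, 3, 1, 1, 3, 1, 3], [2, 0, 2, 0, 0, 2, 0]]

def D4 : PLB.Lvl where
  LL := [
    [0, 1, 2, 3, 16, 13, 5, 4, 8, 21, 17, 20, 9, 6, 18, 14, 7, 19, 15, 10, 22, 12, 11, 23, 25, 26, 24, 27, 28, 31, 29, 30, 38, 43, 42, 32, 41, 36, 35, 34, 33, 37, 39, 40, 47, 44, 46, 45, 50, 54, 56, 53, 49, 55, 52, 51, 48, 59, 57, 58, 63, 71, 70, 64, 60, 69, 65, 61, 62, 66, 68, 67, 83, 80, 94, 74, 82, 76, 95, 96, 88, 81, 77, 87, 99, 98, 97, 72, 73, 84, 86, 85, 78, 79, 75, 92, 93, 90, 91, 89],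
    [0, 1, 2, 3, 7, 6, 13, 16, 8, 12, 19, 22, 21, 5, 15, 18, 4, 10, 14, 17, 11, 9, 20, 23, 26, 24, 25, 27, 28, 30, 31, 29, 35, 40, 39, 38, 37, 41, 32, 42, 43, 36, 34, 33, 45, 47, 46, 44, 56, 52, 48, 55, 54, 51, 49, 53, 50, 58, 59, 57, 64, 67, 68, 60, 63, 66, 69, 71, 70, 65, 62, 61, 87, 88, 75, 94, 77, 82, 92, 93, 73, 81, 76, 72, 89, 91, 90, 83, 80, 99, 97, 98, 95, 96, 74, 78, 79, 86, 85, 84],
    [0, 1, 2, 3, 17, 10, 7, 22, 18, 21, 16, 19, 9, 11, 8, 15, 5, 20, 14, 13, 4, 12, 6, 23, 26, 25, 27, 24, 29, 30, 28, 31, 34, 37, 42, 39, 41, 40, 35, 38, 33, 43, 32, 36, 46, 45, 47, 44, 50, 57, 51, 48, 58, 55, 52, 56, 53, 59, 54, 49, 68, 71, 60, 64, 70, 61, 67, 69, 62, 66, 63, 65, 88, 98, 84, 92, 73, 91, 99, 79, 83, 93, 72, 85, 95, 80, 89, 77, 82, 94, 75, 87, 90, 96, 86, 74, 81, 78, 76, 97],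
    [0, 1, 2, 3, 20, 16, 22, 6, 14, 12, 5, 13, 21, 19, 18, 15, 10, 4, 8, 11, 17, 9, 7, 23, 27, 25, 24, 26, 30, 28, 29, 31, 42, 40, 32, 38, 43, 33, 39, 35, 37, 36, 34, 41, 47, 45, 44, 46, 51, 59, 48, 50, 54, 56, 58, 53, 55, 49, 52, 57, 62, 65, 68, 70, 63, 71, 69, 66, 60, 67, 64, 61, 82, 76, 95, 90, 98, 87, 97, 79, 85, 96, 88, 80, 74, 83, 94, 91, 72, 86, 92, 77, 75, 81, 89, 84, 93, 99, 73, 78],
    [0, 1, 2, 3, 8, 19, 22, 7, 16, 21, 18, 10, 9, 14, 17, 6, 4, 13, 11, 20, 5, 12, 15, 23, 27, 24, 26, 25, 28, 31, 29, 30, 36, 37, 41, 39, 42, 38, 33, 40, 35, 43, 32, 34, 46, 45, 47, 44, 52, 54, 49, 53, 56, 59, 50, 58, 48, 55, 57, 51, 69, 66, 65, 62, 67, 63, 70, 68, 64, 71, 61, 60, 96, 87, 78, 92, 72, 93, 95, 83, 79, 91, 73, 80, 99, 85, 89, 82, 77, 90, 86, 98, 94, 88, 75, 74, 76, 84, 81, 97],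
    [0, 1, 2, 3, 16, 20, 15, 7, 4, 12, 11, 18, 21, 17, 13, 22, 8, 14, 10, 5, 19, 9, 6, 23, 25, 27, 26, 24, 28, 30, 31, 29, 42, 38, 43, 40, 32, 33, 37, 35, 39, 34, 36, 41, 47, 45, 44, 46, 56, 50, 54, 59, 48, 51, 49, 57, 52, 58, 55, 53, 71, 70, 63, 65, 68, 62, 61, 64, 67, 60, 66, 69, 76, 82, 95, 94, 96, 88, 74, 80, 83, 98, 87, 79, 97, 85, 90, 73, 93, 86, 89, 81, 75, 77, 92, 78, 72, 99, 91, 84]]
  b := 5
  U := [[1, 3], [], [1], [2, 1], [5, 3], [2], [2, 0], [0], [4, 0], [5, 1], [3], [5, 0], [4, 2], [4], [5], [3, 1]]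
  W := [[1, 3, 3, 4], [5, 2, 2, 0]]

def D5 : PLB.Lvl where
  LL := [
    [0, 1, 2, 3, 14, 5, 13, 20, 6, 21, 15, 4, 9, 8, 11, 16, 10, 22, 17, 7, 19, 12, 18, 23, 26, 25, 27, 24, 30, 29, 31, 28, 36, 43, 33, 32, 35, 38, 41, 40, 42, 37, 39, 34, 44, 47, 45, 46, 59, 54, 58, 53, 51, 52, 55, 49, 48, 50, 57, 56, 69, 71, 67, 64, 65, 63, 60, 68, 62, 66, 61, 70, 81, 82, 84, 97, 80, 79, 75, 91, 93, 83, 85, 72, 86, 73, 74, 87, 98, 94, 99, 77, 90, 76, 95, 89, 88, 78, 96, 92],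
    [0, 1, 2, 3, 11, 5, 8, 19, 13, 12, 16, 14, 21, 6, 4, 10, 15, 18, 22, 20, 7, 9, 17, 23, 27, 25, 24, 26, 31, 29, 28, 30, 35, 34, 43, 36, 32, 41, 37, 42, 39, 38, 40, 33, 44, 46, 47, 45, 56, 55, 57, 52, 53, 51, 49, 54, 59, 58, 50, 48, 66, 70, 68, 65, 63, 64, 69, 62, 67, 60, 71, 61, 83, 85, 86, 78, 93, 91, 97, 77, 76, 72, 73, 81, 74, 82, 84, 87, 96, 95, 92, 79, 99, 80, 89, 94, 98, 75, 88, 90]]
  b := 4
  U := [[], [1], [0]]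
  W := []

def chain : List PLB.Lvl := [D1, D2, D3, D4, D5]

theorem chain_ok : PLB.chainOK 100 (D0 :: chain) = true := by decide +kernel

theorem prod_eq : PLB.prodM (D0 :: chain) = 44352000 := by decide +kernel

theorem gen_top : closure (gl gsH '' Set.Iio 18) = ⊤ := by
  apply PLB.sub_closure_top
  rw [card_hsN]
  have h := PLB.card_ge chain D0 (gl (gsH.map hsN.subtype)) isTab chain_ok
  rw [prod_eq] at h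
  exact h

end Cfsg.Agent.Helper89.HsM
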