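import Cfsg.Agent.Helper89.J3Ev
import Cfsg.Agent.Helper89.J3sChain

/-! # Words and codes for the normaliser of a Sylow 3-subgroup of the triple cover of `J₃` (helper89)

Generated data. -/

set_option autoImplicit false
set_option maxRecDepth 100000

namespace Cfsg.Agent.Helper89.J3c

open Cfsg.Agent.Helper89

open Cfsg.Agent.Helper7.J3

/-- The codes of `x, x⁻¹, y, y⁻¹, z, z⁻¹`. -/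
def bcs : List ℕ := [0x19000680000e002c0013000118004c001280001, 0x19000680000e002c0013000118004c001280001, 0x1000100000010008040804000080040804010000, 0x400008040004402000040804002000000204000, 0x20000400008000100002000040000800010000200, 0x20100402008040100802010040200804010080201]

theorem bcs_ok : ∀ i, i < 3 → mulF (bcs.getD (2 * i) idC) (bcs.getD (2 * i + 1) idC) = idC := by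
  decide +kernel

theorem bcs_eq : bcs.getD 0 idC = cX ∧ bcs.getD 2 idC = cY ∧ bcs.getD 4 idC = packSym (eScal 2) := by
  decide +kernel

/-- Four elements of order 8 generating the normaliser of a Sylow 3-subgroup, as words in
`x, y, z`. -/
def sw : List (List ℕ) := [[2, 0, 2, 2, 0, 2, 0, 2, 2, 1, 3, 3, 1, 3, 3, 1, 2, 2, 2, 2, 0, 2, 0, 3, 1, 3, 3, 3, 0, 2, 0, 2, 0, 2, 2, 1, 3, 3, 3, 3, 3, 0, 2, 0, 2, 0, 2, 2, 1, 3, 3, 3, 3, 3, 0, 2, 2, 0, 2, 0, 2, 2, 1, 3, 3, 1, 3, 3, 1, 2, 0, 2, 0, 2, 0, 2, 2, 1, 3, 3, 3, 3, 3, 0, 2, 0, 2, 0, 2, 2, 1, 3, 3, 3, 3, 3, 0, 2, 0, 2, 0, 2, 2, 1, 3, 3, 3, 3, 3, 0, 2, 2, 0, 2, 0, 2, 2, 1, 3, 3, 1, 3, 3, 1, 2, 0, 2, 0, 2, 0, 2, 2, 1, 3, 3, 3, 3, 3, 0, 2, 2, 0, 2, 0, 2, 2, 1, 3, 3,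 1, 3, 3, 1, 2, 0, 2, 0, 2, 0, 2, 2, 1, 3, 3, 3, 3, 3, 3, 0, 2, 0, 2, 0, 2, 2, 2, 0, 2, 2, 2, 2, 0, 2, 2, 2, 2, 0], [2, 2, 2, 2, 0, 2, 0, 3, 1, 3, 3, 3, 0, 2, 2, 0, 2, 0, 2, 2, 1, 3, 3, 1, 3, 3, 1, 2, 2, 2, 2, 0, 2, 0, 3, 1, 3, 3, 3, 0, 2, 0, 2, 0, 2, 2, 1, 3, 3, 3, 3, 3, 0, 2, 0, 2, 0, 2, 2, 1, 3, 3, 0, 2, 0, 2, 2, 2, 2, 2, 2, 2, 0, 2, 2, 2, 0], [2, 0, 2, 0, 2, 0, 2, 2, 1, 3, 3, 3, 3, 3, 0, 2, 0, 2, 0, 2, 2, 1, 3, 3, 3, 3, 3, 0, 2, 0, 2, 0, 2, 2, 1, 3, 3, 3, 3, 3, 0, 2, 0, 2, 0, 2, 2, 1, 3, 3, 3, 3, 3, 0, 2, 2, 0, 2, 0, 2, 2, 1, 3, 3, 1, 3, 3, 1, 2, 0, 2, 2, 0, 2, 0, 2, 2, 1, 3, 3, 1, 3, 3, 1, 2, 0, 2, 0, 2, 0, 2, 2, 1, 3, 3, 3, 3, 3, 0, 2, 0, 2, 0, 2, 2, 1, 3, 3, 3, 3, 3, 0, 2, 2, 0, 2, 0, 2, 2, 1, 3, 3,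 1, 3, 3, 1, 2, 0, 2, 0, 2, 0, 2, 2, 1, 3, 3, 3, 3, 3, 0, 2, 0, 2, 0, 2, 2, 1, 3, 3, 3, 3, 3, 0, 2, 2, 0, 2, 0, 2, 2, 1, 3, 3, 1, 3, 0, 2, 0, 2, 2, 2, 2, 2, 0, 2, 0, 2, 2, 2], [2, 2, 2, 2, 0, 2, 0, 3, 1, 3, 3, 3, 0, 2, 2, 0, 2, 0, 2, 2, 1, 3, 3, 1, 3, 3, 1, 2, 2, 2, 2, 0, 2, 0, 3, 1, 3, 3, 3, 0, 2, 2, 0, 2, 0, 2, 2, 1, 3, 3, 1, 3, 3, 1, 2, 2, 2, 2, 0, 2, 0, 3, 1, 3, 3, 3, 0, 2, 2, 0, 2, 0, 2, 2, 1, 3, 3, 1, 3, 3, 1, 2, 0, 2, 2, 0, 2, 0, 2, 2, 1, 3, 3, 1, 3, 3, 1, 2, 2, 2, 2, 0, 2, 0, 3, 1, 3, 3, 3, 0, 2, 2, 0, 2, 0, 2, 2, 1, 3, 3, 1, 3, 3, 1, 2, 0, 2, 0, 2, 0, 2, 2, 1, 3, 3, 3, 3, 3, 3, 0, 2, 0, 2, 2, 0, 2, 2, 0, 2, 2, 2, 0, 2, 2, 2, 2, 0]]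

/-- The codes of these four elements and of their inverses. -/
def sc : List ℕ := [0x4020010080040008060100080410000000200800, 0x2000020100040800001000000080201400004000, 0x4000010000040000040100080010080040000004, 0x10020000040804001008010080001402000020, 0x4000010000040008020000080410000000200804, 0x2010020100040804001000000080200402004020, 0x1000000100080010088000100020000000400001, 0x804001002010040200002804000080100000001]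

theorem sc_ok : codesOK bcs sw sc = true := by decide +kernel

theorem sE_ok : (J3s.E).all (fun w => evA sc idC w == idC) = true := by decide +kernel

/-- Words for 1945 distinct elements of the normaliser, in the order of their codes. -/
def tw : List (List ℕ) := [[7, 7, 5, 1], [7, 7, 1, 1], [7, 5, 6, 6], [6, 5, 7, 4], [1, 5, 6, 2], [0, 4, 7, 7], [1, 3, 6, 0], [2, 4, 2, 5], [0, 0, 5, 2], [0, 0, 4, 3], [0, 0, 0, 5, 6], [0, 4, 6], [0, 0, 6, 5, 2], [0, 2, 6, 0, 3], [4, 3, 7, 5], [1, 4, 7, 1], [7, 5], [7, 4, 3, 1], [7, 1, 4, 3], [5, 0, 7, 3], [7, 0, 3, 1], [7, 4, 1, 5], [7, 5, 6], [0, 0, 7, 2, 1], [0, 0, 7, 5, 2], [0, 0, 7, 1, 4], [2, 0, 7], [4, 0, 7], [2, 0, 6, 6], [4, 0, 6, 6], [6, 6, 4, 6], [0, 4, 6, 6],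 [7, 5, 7, 7], [6, 1, 7, 4], [6, 3, 7, 0], [7, 4, 6, 3], [1, 1, 6, 2], [3, 5, 6, 4], [5, 5, 6, 0], [7, 2, 6, 1], [3, 1, 6, 4], [2, 0, 7, 7], [4, 0, 7, 7], [0, 5, 0, 2], [2, 0], [4, 0], [6, 6, 4, 7], [0, 0, 0, 5], [0, 4], [0, 3, 4, 4], [7, 5, 7], [0, 0, 4, 3, 6], [0, 0, 6, 4, 3], [0, 0, 5, 2, 6], [0, 0, 6, 0, 5], [0, 0, 6, 2, 1], [4, 0, 6], [2, 0, 6], [6, 6, 4], [5, 2, 7, 1], [0, 3, 7, 3], [0, 5, 7, 3], [3, 7, 7, 0], [2, 1, 7, 1], [4, 1, 7, 1], [5, 7, 7, 2], [3, 4, 7, 3], [1, 7, 7, 4], [0, 0, 7, 4, 3], [0, 0, 0, 5, 7], [0, 4, 7], [0, 0, 7, 0, 5], [0, 0, 5, 2, 7], [0, 0, 4, 3, 7], [6, 4, 1, 3], [5, 5, 6, 6], [2, 5, 6, 3], [6, 3], [4, 3, 6, 3], [4, 1, 6, 5], [6, 0, 5, 3], [2, 1, 6, 5], [0, 0, 2, 7, 0], [0, 0,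 6, 3, 6], [0, 2, 5, 6], [0, 6, 4, 3], [5, 2, 0, 6], [4, 6, 5, 2], [1, 6, 6, 4], [2, 6, 5, 2], [2, 6, 4, 1], [4, 6, 4, 1], [5, 1, 5], [1, 3, 1], [7, 2, 0], [3, 7, 3, 4], [7, 3, 5, 6], [3, 7, 4, 1], [1, 7, 0, 3], [0, 3, 5, 7], [7, 1, 3, 6], [0, 5, 5, 7], [2, 7, 1], [4, 7, 1], [7, 7, 4], [6, 1, 1, 4], [5, 1, 6, 6], [6, 1, 4, 3], [1, 4, 6, 5], [0, 7, 4, 7], [4, 1, 6, 1], [0, 7, 0, 7], [1, 3, 6, 6], [6, 2, 1, 5], [5, 2, 6, 5], [1, 4, 6, 1], [0, 0, 0, 7, 4], [0, 2, 4, 7, 0], [0, 0, 0, 7, 2], [2, 6], [4, 6], [2, 5, 2, 6], [0, 6, 0, 3], [0, 4, 1, 6], [0, 6, 1, 4], [3, 6, 6, 0], [2, 6, 0, 5], [1, 6, 6, 2], [2, 6, 3, 4], [4, 6, 3, 4], [0, 2, 4, 4, 4], [1, 3, 5], [3, 5, 3], [5, 1, 1], [5, 5, 5], [6, 0, 7], [6, 4, 7],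 [0, 0, 7, 3, 6], [5, 7, 2, 1], [2, 5, 3, 7], [3, 7], [4, 1, 1, 7], [3, 7, 0, 5], [1, 7, 4, 3], [3, 7, 5, 2], [3, 1, 4, 7], [1, 7, 1, 4], [1, 4, 1, 7], [4, 7, 5], [2, 7, 5], [0, 2, 5, 7, 1], [7, 7, 2], [0, 7, 3], [5, 7, 5, 1], [0, 4, 6, 2], [1, 5, 7, 7], [0, 2, 6, 0], [6, 1, 5, 6], [1, 6, 6, 3], [3, 6, 6, 5], [6, 6, 5, 7], [6, 5, 3, 6], [3, 6, 6, 1], [0, 2, 4, 2, 6], [0, 0, 0, 4, 6], [0, 4, 2], [4, 4, 0], [0, 0, 0, 5, 2], [6, 4, 4, 7], [6, 0, 4, 7], [7, 2, 1], [7, 5, 2], [7, 2, 5], [5, 0, 7], [0, 0, 5, 1, 7], [7, 1, 4], [0, 2, 4, 7, 1], [0, 0, 0, 7, 3], [7, 4, 6], [7, 0, 6], [7, 1, 7, 4], [6, 3, 1, 5], [3, 7, 1, 5], [4, 2, 6, 4], [6, 6, 2, 0], [0, 0, 6, 4], [1, 1, 7, 7], [1, 7, 1, 3], [3, 7, 1, 1], [2, 0, 6,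 2], [4, 0, 6, 2], [5, 7, 3, 1], [6, 6, 4, 2], [6, 6, 3, 7], [7, 5, 6, 2], [7, 1, 6, 4], [2, 6, 5, 3], [4, 6, 5, 3], [2, 6, 1, 5], [4, 6, 1, 5], [4, 6, 1, 1], [2, 6, 1, 1], [0, 6, 1, 3], [0, 0, 0, 0, 6], [7, 7, 3], [0, 0, 6, 6, 4], [0, 0, 5, 0, 0], [0, 0, 4], [4, 2, 4], [0, 2, 0], [4, 0, 2], [0, 0, 4, 0, 5], [0, 6, 5, 6], [0, 2, 7, 0], [4, 0, 7, 2], [2, 0, 7, 2], [0, 0, 7, 4], [4, 2, 7, 4], [5, 6, 6, 6], [2, 4, 7, 0], [4, 4, 7, 0], [0, 6, 3, 6], [0, 4, 7, 2], [0, 5, 7], [0, 3, 7], [3, 4, 7], [0, 2, 4, 7, 5], [0, 0, 2, 7, 1], [0, 0, 7, 7, 4], [0, 0, 2, 7, 5], [6, 5, 1, 3], [1, 7, 3, 6], [7, 3, 7, 0], [7, 5, 7, 2], [5, 7, 1, 6], [1, 7, 5, 6], [6, 1, 1, 3], [1, 1, 4, 3], [5, 5], [1, 4, 3, 1], [6, 3, 7, 7], [3,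 7, 0], [5, 7, 2], [1, 4, 6], [3, 7, 7, 7], [6, 0, 0, 6], [6, 4, 0, 6], [0, 7, 3, 4], [2, 7, 0, 5], [0, 4, 1, 7], [1, 4, 0, 7], [4, 7, 5, 0], [7, 0, 0, 2], [0, 6, 6, 3], [7, 2, 0, 4], [7, 4, 0, 2], [0, 2, 4, 6, 6], [0, 2, 1, 6, 2], [2, 6, 0], [4, 6, 0], [5, 1], [0, 5, 1, 5], [0, 3, 1, 5], [0, 5, 1, 1], [1, 3], [1, 5, 5, 2], [0, 0, 7, 3, 7], [3, 7, 4], [6, 2, 5], [5, 2, 6], [0, 0, 6, 3, 7], [6, 2, 1], [2, 1, 6], [4, 1, 6], [0, 2, 1, 5, 6], [6, 3, 4], [7, 1, 3, 7], [7, 5, 1, 7], [7, 3, 5, 7], [0, 7, 2, 1], [7, 7, 4, 4], [2, 7, 4, 1], [4, 7, 4, 1], [0, 2, 5, 7], [7, 7, 2, 0], [2, 7, 1, 4], [6, 1, 6, 3], [0, 7, 2, 5], [7, 7, 4, 0], [2, 7], [4, 7], [2, 5, 2, 7], [6, 4, 7, 4], [6, 4, 7, 0], [6, 0, 7, 4], [6, 0, 7,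 0], [6, 2, 7, 2], [0, 0, 2, 6, 6], [0, 2, 5, 6, 4], [4, 6, 4], [0, 0, 5, 6, 2], [2, 6, 4], [0, 2, 5, 6, 0], [6, 3, 6], [1, 3, 5, 6], [3, 6, 1, 7], [0, 5, 5], [0, 3, 5], [0, 0, 5, 3, 1], [3, 6, 0, 7], [7, 7, 2, 6], [1, 7, 4, 4], [1, 7, 4, 0], [0, 7, 3, 6], [1, 1, 7, 5], [1, 3, 7, 1], [2, 6, 2, 0], [3, 1, 7, 3], [0, 6, 0, 0], [0, 2, 0, 6, 5], [0, 2, 4, 6, 1], [7, 2, 0, 6], [6, 2, 0, 5], [0, 5, 6, 2], [0, 3, 6, 2], [6, 5, 0, 0], [0, 7, 4], [0, 2, 1, 7, 2], [0, 7, 0], [5, 5, 5, 6], [2, 7, 7, 1], [4, 7, 7, 1], [0, 7, 7, 3], [3, 6, 5, 7], [1, 3, 1, 6], [5, 1, 5, 6], [3, 6, 3, 7], [7, 2, 7, 7], [4, 1, 1], [2, 5, 3], [3], [1, 4, 1], [3, 1, 4], [1, 7, 0, 0], [7, 7, 4, 6], [2, 7, 1, 6], [4, 7, 1, 6], [1, 7, 0, 4], [3,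 7, 2, 4], [2, 7, 5, 6], [3, 7, 2, 0], [5, 7, 0, 2], [3, 6, 2, 7], [3, 6, 4, 7], [5, 5, 7, 1], [0, 6, 4, 4], [5, 1, 7, 1], [1, 5, 7, 5], [3, 5, 7, 3], [2, 6, 2, 4], [0, 6, 4, 0], [0, 6, 0, 4], [0, 2, 5, 6, 6], [0, 0, 2, 6, 1], [2, 6, 6], [4, 6, 6], [0, 0, 0, 6, 3], [0, 0, 4, 6, 5], [6, 0, 5, 0], [3, 4, 6, 2], [2, 5, 6, 4], [6, 4], [4, 3, 6, 0], [2, 5, 6, 0], [6, 0], [6, 2, 4, 3], [5, 0, 6, 2], [6, 1, 4, 0], [1, 5, 6], [0, 5, 0], [0, 2, 1], [2, 1, 4], [4, 7, 3, 7], [2, 7, 3, 7], [5, 5, 7, 2], [6, 4, 0, 4], [0, 6, 2, 6], [6, 0, 0, 4], [1, 5, 1, 7], [5, 1, 3, 7], [4, 2, 7, 5], [0, 2, 7, 1], [0, 0, 7, 5], [4, 0, 7, 3], [2, 0, 7, 3], [4, 7, 7, 4], [2, 7, 7, 4], [7, 1, 5], [0, 2, 4, 6, 4], [7, 3, 1], [7, 5, 3], [6,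 4, 3, 6], [3, 4, 6, 6], [6, 6, 2, 1], [6, 0, 3, 6], [2, 4, 6, 1], [4, 4, 6, 1], [1, 1, 6], [0, 0, 7, 7, 5], [1, 4, 4], [0, 4, 3], [1, 4, 2], [5, 0, 0], [0, 0, 5], [4, 2, 5], [1, 3, 7, 4], [1, 5, 7, 0], [5, 1, 7, 2], [7, 1, 6, 5], [5, 5, 7, 4], [7, 3, 6, 1], [1, 1, 7, 0], [1, 3, 7, 2], [6, 0, 0, 2], [1, 5, 5, 7], [6, 4, 0, 2], [1, 1, 1, 7], [6, 4, 4, 0], [6, 0, 4, 0], [1, 1, 5, 7], [2, 4, 7, 1], [4, 4, 7, 1], [6, 2, 7, 7], [0, 4, 7, 3], [5, 7, 0, 6], [2, 7, 7, 2], [4, 7, 7, 2], [7, 4, 0, 7], [7, 2, 4, 7], [7, 0, 0, 7], [0, 0, 2, 6, 4], [0, 0, 2, 6, 2], [5, 7, 7], [0, 0, 4, 6, 0], [0, 0, 6, 6, 5], [5, 0, 6, 6], [4, 0, 6, 3], [2, 0, 6, 3], [6, 6, 4, 3], [0, 5, 6, 6], [0, 3, 6, 6], [0, 4, 6, 3], [0, 0, 6, 5],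 [0, 2, 6, 1], [6, 6, 5, 0], [0, 7, 2, 6], [2, 7, 4, 6], [4, 7, 4, 6], [5, 6, 0, 4], [7, 4, 7, 5], [5, 6, 5, 5], [7, 0, 7, 5], [5, 6, 5, 1], [7, 4, 7, 1], [5, 6, 1, 3], [5, 6, 3], [0, 2, 0, 7, 7], [1, 7, 3, 7], [6, 2, 6, 4], [5, 6], [4, 3, 5, 6], [2, 5, 5, 6], [0, 6, 3, 7], [4, 7, 0, 6], [5, 6, 0, 0], [2, 7, 0, 6], [6, 2, 6, 3], [5, 6, 0, 2], [5, 6, 4, 4], [5, 6, 2, 4], [0, 0, 0, 4, 7], [0, 2, 4, 2, 7], [6, 2, 6], [0, 0, 0, 0, 7], [5, 6, 3, 1], [7, 4, 7, 3], [5, 6, 3, 5], [5, 6, 5, 3], [6, 5, 5, 7], [5, 6, 1, 5], [5, 6, 1, 1], [5, 6, 1], [7, 0, 7], [5, 6, 5], [7, 4, 7], [5, 6, 2], [5, 6, 4], [0, 0, 4, 7, 7], [5, 6, 0], [6, 2, 6, 2], [5, 7, 1, 7], [1, 7, 5, 7], [0, 5, 1, 6], [0, 3, 1, 6], [4, 1, 3, 6], [5, 6,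 0, 5], [5, 6, 0, 3], [5, 6, 3, 4], [1, 3, 4, 6], [5, 5, 0, 6], [1, 4, 3, 6], [5, 6, 5, 2], [7, 4, 7, 2], [0, 6, 5, 7], [5, 6, 2, 1], [0, 2, 6, 0, 7], [5, 6, 4, 6], [5, 6, 2, 6], [0, 4, 2, 7], [4, 4, 0, 7], [1, 7, 3], [0, 0, 6, 0, 0], [0, 6, 5], [0, 0, 5, 6, 1], [0, 7, 1, 5], [0, 3, 7, 7], [0, 5, 7, 7], [6, 5, 5], [2, 5, 7, 4], [7, 4], [4, 3, 7, 4], [2, 5, 7, 0], [7, 0], [4, 3, 7, 0], [7, 5, 0, 2], [7, 0, 5, 0], [1, 4, 7, 2], [0, 0, 0, 0], [0, 4, 4, 0], [2, 4, 2, 4], [7, 7, 3, 7], [6, 2, 6, 6], [0, 0, 6, 4, 7], [0, 0, 7, 0, 4], [0, 0, 7, 0, 0], [6, 6, 6, 3], [7, 2, 6, 2], [5, 6, 0, 6], [0, 0, 4, 7], [4, 2, 4, 7], [6, 6, 6, 5], [0, 2, 0, 7], [4, 0, 2, 7], [5, 7, 1], [1, 7, 5], [0, 0, 6, 0, 4], [5, 6, 6], [0,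 6, 3], [0, 0, 7, 4, 7], [0, 7, 5, 5], [7, 7, 0, 3], [7, 7, 5, 2], [3, 4, 7, 7], [0, 7, 1, 3], [7, 2, 1, 7], [7, 2, 5, 7], [2, 7, 3, 1], [4, 7, 3, 1], [0, 7, 5, 3], [7, 1, 4, 7], [5, 0, 7, 7], [6, 1, 5], [6, 5, 3], [6, 1, 3], [5, 2, 7, 2], [5, 6, 3, 6], [5, 6, 1, 6], [2, 1, 7, 2], [4, 1, 7, 2], [0, 4, 0, 2], [3, 1, 5, 5], [0, 4, 4, 4], [0, 2, 4, 2], [0, 0, 0, 4], [3, 1, 7], [6, 2, 4], [0, 6, 0, 7], [2, 7, 2, 0], [4, 7, 2, 0], [2, 6, 2, 7], [4, 6, 2, 7], [2, 7, 0, 4], [0, 0, 7, 1, 1], [3, 7, 2, 7], [5, 5, 6, 3], [5, 3, 6, 1], [5, 1, 6, 5], [3, 5, 6, 1], [2, 4, 2, 6], [4, 4, 2, 6], [0, 6, 6, 0], [7, 1, 1, 1], [7, 5, 1, 3], [7, 5, 1, 5], [], [4, 3], [2, 5], [6, 0, 5, 7], [6, 4, 1, 7], [3, 5, 7], [5, 3, 7], [6,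 0, 2], [6, 4, 2], [0, 0, 7, 0, 6], [0, 7, 4, 2], [0, 7, 2, 4], [2, 7, 4, 4], [4, 7, 4, 4], [0, 6, 4, 7], [0, 7, 0, 2], [0, 0, 7, 3, 5], [0, 7, 7], [0, 0, 6, 3, 5], [0, 0, 6, 1, 1], [6, 6, 1], [5, 1, 6, 3], [1, 7, 4, 7], [1, 3, 6, 5], [1, 7, 0, 7], [6, 5, 7, 1], [1, 3, 6, 3], [5, 5, 6, 5], [4, 0, 4, 6], [2, 0, 4, 6], [3, 7, 7, 5], [3, 7, 7, 3], [0, 0, 0, 6], [0, 4, 4, 6], [2, 6, 6, 2], [4, 6, 6, 2], [0, 4, 1, 3], [0, 3, 1, 4], [0, 4, 1, 5], [0, 2, 5, 3], [0, 5, 5, 2], [0, 2, 5, 5], [7, 1, 6, 6], [1, 1, 6, 4], [5, 5, 6, 2], [0, 0, 7, 7], [4, 2, 7, 7], [3, 5, 6, 0], [0, 2, 1, 4], [1, 4, 0, 2], [0, 2, 0, 5], [0, 0, 6], [4, 2, 6], [6, 6, 0], [4, 3, 7, 1], [2, 5, 7, 1], [7, 1], [1, 4, 7, 3], [7, 2, 1, 5], [7, 0,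 5, 1], [7, 3, 4, 3], [7, 2, 5, 5], [7, 4, 1, 1], [0, 0, 7, 7, 7], [7, 1, 6], [0, 2, 5, 2, 7], [0, 2, 4, 3, 7], [7, 7, 3, 5], [4, 2, 6, 6], [0, 0, 6, 6], [7, 7, 1, 3], [6, 6, 0, 6], [7, 7, 5, 3], [5, 1, 6, 2], [3, 1, 6, 0], [1, 5, 6, 4], [1, 3, 6, 2], [7, 0, 6, 5], [0, 2, 5, 2], [0, 2, 4, 3], [0, 4, 2, 5], [0, 0], [4, 2], [0, 5, 2, 0], [6, 6, 0, 7], [0, 0, 6, 6, 6], [7, 1, 7], [0, 2, 0, 5, 6], [0, 2, 1, 4, 6], [0, 2, 5, 2, 6], [0, 2, 4, 3, 6], [0, 2, 6, 0, 5], [0, 5, 7, 5], [0, 3, 7, 5], [3, 7, 7, 2], [5, 2, 7, 3], [3, 4, 7, 5], [4, 1, 7, 3], [2, 1, 7, 3], [1, 7, 7, 0], [0, 0, 7], [4, 2, 7], [0, 2, 1, 4, 7], [0, 2, 0, 5, 7], [0, 2, 6, 6], [7, 7, 1, 5], [3, 1, 6, 2], [7, 3, 6, 6], [0, 3, 4, 2], [0, 5, 0, 0],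 [0, 2], [0, 0, 5, 0, 6], [0, 0, 4, 1, 6], [0, 0, 6, 3, 4], [5, 0, 7, 1], [1, 4, 7, 5], [7, 1, 4, 1], [2, 5, 7, 3], [7, 3], [4, 3, 7, 3], [7, 0, 3, 5], [7, 0, 5, 3], [7, 1, 3, 4], [7, 3, 6], [0, 0, 7, 4, 1], [4, 4, 7], [0, 0, 2, 5, 7], [2, 4, 7], [2, 4, 6, 6], [4, 4, 6, 6], [6, 6, 2, 6], [7, 3, 7, 7], [6, 5, 7, 2], [1, 3, 6, 4], [1, 5, 6, 0], [0, 2, 7, 7], [6, 1, 7, 2], [7, 2, 6, 5], [5, 3, 6, 2], [3, 5, 6, 2], [1, 1, 6, 0], [6, 3, 7, 4], [2, 4, 7, 7], [4, 4], [0, 0, 2, 5], [2, 4], [6, 6, 2, 7], [0, 0, 4, 1], [0, 4, 0, 5], [0, 0, 5, 0], [7, 3, 7], [0, 2, 6], [0, 0, 6, 5, 0], [2, 4, 6], [4, 4, 6], [0, 0, 2, 5, 6], [0, 0, 6, 0, 3], [0, 0, 6, 4, 1], [6, 6, 2], [0, 5, 7, 1], [0, 3, 7, 1], [5, 2, 7, 5], [3, 7, 7,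 4], [2, 1, 7, 5], [1, 7, 7, 2], [3, 4, 7, 1], [5, 7, 7, 0], [0, 0, 7, 2, 5], [0, 0, 4, 1, 7], [0, 0, 5, 0, 7], [0, 0, 7, 3, 4], [0, 0, 7, 0, 3], [0, 0, 7, 5, 0], [0, 2, 7], [3, 1, 6, 6], [6, 5, 5, 2], [5, 0, 6, 3], [6, 1, 4, 1], [0, 2, 0, 7, 2], [3, 4, 2, 6], [2, 6, 2, 5], [2, 4, 3, 6], [0, 6, 0, 5], [1, 6, 6, 0], [0, 6, 3, 4], [5, 3, 1], [0, 2, 4, 2, 4], [1, 5, 3], [0, 0, 7, 1, 6], [7, 4, 2], [7, 4, 4], [7, 0, 2], [7, 0, 4], [1, 7, 0, 5], [7, 5, 5, 6], [3, 7, 2, 1], [5, 7, 0, 3], [1, 7, 5, 2], [5, 5, 2, 7], [3, 4, 3, 7], [1, 1, 4, 7], [0, 2, 1, 7, 3], [6, 0, 5, 5], [0, 3, 6, 3], [6, 4, 1, 5], [0, 5, 6, 3], [2, 5, 6, 5], [6, 5], [4, 3, 6, 5], [5, 3, 6, 6], [3, 5, 6, 6], [2, 7, 2, 7], [3, 4, 6, 3], [6, 1],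 [4, 3, 6, 1], [2, 5, 6, 1], [0, 0, 4, 7, 4], [0, 0, 0, 7, 0], [0, 0, 6, 1, 6], [6, 6, 6], [0, 0, 4, 7, 2], [4, 0, 5, 6], [2, 6, 5, 0], [2, 0, 5, 6], [0, 6, 5, 2], [0, 6, 4, 1], [0, 3, 4, 6], [0, 5, 2, 6], [0, 6], [4, 6, 2, 1], [5, 6, 6, 2], [2, 6, 2, 1], [5, 3, 5], [1, 1, 3], [3, 5, 5], [3, 1, 5], [1, 7, 3, 4], [1, 7, 4, 1], [3, 7, 2, 5], [3, 7, 5, 0], [1, 5, 0, 7], [2, 1, 5, 7], [5, 7, 4, 3], [1, 7], [4, 3, 1, 7], [0, 5, 3, 7], [0, 7, 1], [7, 7, 0], [0, 7, 5], [0, 0, 5, 7, 3], [6, 0, 3, 5], [1, 5, 6, 6], [1, 4, 6, 3], [0, 7, 2, 7], [4, 7, 4, 7], [0, 5, 6, 1], [0, 3, 6, 1], [0, 0, 6, 5, 6], [0, 0, 2, 7, 4], [0, 2, 4, 7, 2], [0, 5, 0, 6], [0, 2, 1, 6], [2, 1, 4, 6], [5, 6, 6, 0], [2, 6, 0, 3], [4, 6, 0, 3],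 [0, 6, 2, 1], [1, 1, 5], [0, 0, 4, 4, 4], [7, 0, 0], [7, 2, 4], [7, 4, 0], [5, 7, 0, 5], [5, 7, 5, 2], [4, 1, 3, 7], [0, 5, 1, 7], [0, 3, 1, 7], [0, 2, 1, 7, 5], [0, 2, 5, 7, 3], [1, 1, 6, 6], [2, 7, 0, 7], [4, 7, 0, 7], [5, 2, 6, 3], [6, 2, 5, 3], [3, 4, 6, 1], [5, 0, 6, 5], [6, 3, 4, 3], [4, 1, 6, 3], [6, 5, 5, 0], [2, 1, 6, 3], [0, 3, 6, 5], [5, 0, 6, 1], [0, 5, 6, 5], [0, 0, 4, 7, 0], [0, 0, 2, 7, 2], [0, 2, 4, 7, 4], [0, 2, 0, 7, 0], [0, 6, 2, 5], [0, 4, 3, 6], [1, 4, 2, 6], [3, 6, 6, 2], [0, 6, 5, 0], [0, 0, 5, 6], [2, 6, 4, 3], [3, 6, 6, 4], [0, 0, 4, 0, 4], [1, 5, 1], [5, 1, 3], [1, 1, 1], [1, 5, 5], [0, 0, 0, 2, 4], [0, 0, 7, 5, 6], [6, 2, 7], [3, 7, 4, 3], [1, 7, 2, 1], [5, 7, 4, 1], [1, 4, 3, 7],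 [1, 3, 4, 7], [3, 7, 1, 4], [3, 7, 0, 3], [1, 7, 2, 5], [2, 5, 5, 7], [5, 7], [1, 7, 5, 0], [0, 0, 5, 7, 1], [2, 7, 3], [4, 7, 3], [0, 0, 5, 7, 5], [0, 2, 1, 7, 1], [1, 7, 1, 1], [3, 7, 3, 5], [2, 4, 6, 4], [0, 0, 6, 2], [5, 5, 7, 7], [5, 6, 6, 3], [2, 6, 3, 1], [0, 6, 1, 5], [0, 6, 1, 1], [4, 6, 3, 5], [2, 6, 3, 5], [7, 7, 1], [7, 7, 5], [0, 0, 6, 6, 2], [2, 4, 4], [4, 4, 4], [0, 0, 2], [0, 2, 7, 4], [4, 6, 1, 6], [0, 4, 7, 0], [7, 4, 3], [7, 3, 4], [7, 0, 3], [1, 4, 7], [7, 5, 0], [7, 2, 6], [0, 0, 4, 7, 3], [2, 7, 7, 7], [4, 7, 7, 7], [6, 1, 5, 3], [7, 3, 7, 4], [6, 5, 1, 1], [3, 7, 5, 5], [6, 6, 4, 0], [3, 7, 3, 1], [5, 7, 1, 3], [1, 7, 5, 3], [4, 0, 6, 0], [3, 7, 5, 1], [1, 7, 1, 5], [0, 2, 6, 4], [0,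 4, 6, 0], [1, 3, 7, 7], [7, 3, 6, 4], [1, 6, 6, 5], [1, 6, 6, 1], [2, 6, 5, 5], [4, 6, 5, 5], [2, 6, 5, 1], [4, 6, 5, 1], [0, 6, 5, 3], [0, 0, 4, 0, 6], [0, 2, 0, 4, 6], [0, 0, 0, 2, 6], [0, 0, 2, 0, 5], [0, 0, 0, 5, 0], [0, 4, 0], [0, 2, 4], [0, 0, 0, 4, 3], [0, 0, 5, 2, 0], [2, 4, 7, 4], [4, 4, 7, 4], [3, 6, 6, 6], [6, 0, 0, 7], [2, 0, 7, 0], [4, 0, 7, 0], [0, 0, 7, 2], [4, 2, 7, 2], [0, 0, 5, 3, 7], [5, 2, 7], [2, 1, 7], [4, 1, 7], [0, 2, 1, 5, 7], [0, 2, 0, 7, 3], [0, 0, 7, 7, 2], [0, 0, 0, 7, 1], [6, 5, 1, 5], [3, 7, 1, 6], [6, 3, 5, 5], [7, 5, 7, 0], [5, 7, 3, 6], [6, 1, 1, 5], [5, 7, 5, 6], [5, 7, 1, 1], [1, 7, 5, 1], [2, 0, 6, 4], [4, 0, 6, 4], [3, 7, 1, 3], [3, 1, 7, 7], [0, 6, 5, 5], [0, 6, 5, 1],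 [0, 0, 2, 0, 6], [4, 0, 4], [0, 0, 5, 0, 2], [2, 0, 4], [2, 6, 5, 6], [4, 6, 5, 6], [4, 2, 7, 0], [0, 0, 7, 0], [0, 2, 7, 2], [7, 0, 5], [7, 4, 1], [4, 3, 7], [2, 5, 7], [7], [0, 2, 0, 7, 1], [0, 0, 4, 7, 5], [6, 1, 3, 1], [7, 5, 7, 4], [6, 5, 3, 5], [6, 1, 5, 5], [3, 7, 3, 6], [0, 4, 6, 4], [0, 2, 6, 2], [1, 7, 3, 5], [5, 7, 5, 3], [1, 7, 5, 5], [5, 7, 1, 5], [1, 7, 3, 1], [4, 4, 6, 2], [0, 0, 6, 0], [4, 2, 6, 0], [3, 5, 7, 7], [0, 6, 3, 1], [5, 6, 6, 5], [6, 5, 1, 6], [2, 6, 1, 3], [0, 6, 3, 5], [5, 6, 6, 1], [3, 6, 6, 3], [7, 1, 6, 0], [6, 1, 1, 6], [6, 6, 1, 7], [0, 2, 4, 4, 6], [0, 0, 2, 4, 6], [0, 0, 4, 2, 6], [0, 0, 6, 6, 0], [0, 2, 4, 2, 5], [0, 0, 0], [0, 4, 4], [0, 0, 2, 5, 2], [2, 4, 2], [4, 4,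 2], [4, 0, 7, 4], [0, 6, 1, 6], [2, 4, 7, 2], [4, 4, 7, 2], [2, 6, 3, 6], [0, 4, 7, 4], [1, 6, 6, 6], [0, 2, 5, 5, 7], [0, 2, 5, 3, 7], [0, 2, 0, 7, 5], [0, 2, 4, 7, 3], [0, 0, 7, 7, 0], [0, 0, 4, 7, 1], [0, 0, 2, 7, 3], [0, 7, 7, 7], [3, 7, 5, 6], [6, 5, 3, 1], [6, 1, 5, 1], [1, 7, 1, 6], [6, 5, 5, 5], [3, 1], [3, 5, 5, 0], [0, 5, 1, 3], [1, 7, 4], [4, 3, 6], [2, 5, 6], [6], [6, 0, 5], [6, 4, 1], [6, 2, 4, 6], [4, 7, 4, 3], [2, 7, 4, 3], [7, 7, 0, 0], [0, 3, 4, 7], [0, 5, 2, 7], [0, 7], [7, 0, 4, 4], [7, 4, 4, 0], [7, 0, 2, 4], [7, 0, 2, 0], [7, 0, 4, 0], [7, 4, 4, 4], [6, 6, 1, 6], [7, 4, 2, 4], [0, 2, 5, 6, 2], [0, 6, 4], [0, 3, 5, 5], [1, 4, 1, 1], [0, 5, 5, 5], [6, 5, 7, 7], [1, 1, 3, 4], [3, 5], [5,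 3], [6, 1, 7, 7], [1, 7, 0], [3, 7, 2], [0, 0, 7, 1, 7], [6, 1, 4], [6, 5, 0], [0, 2, 5, 5, 6], [0, 2, 5, 3, 6], [1, 7, 7, 7], [6, 6, 6, 4], [6, 4, 2, 6], [7, 1, 1, 7], [6, 0, 2, 6], [6, 3, 6, 1], [0, 7, 0, 5], [7, 7, 4, 2], [2, 7, 0, 3], [4, 7, 0, 3], [0, 7, 5, 0], [3, 4, 4, 7], [2, 4, 3, 7], [0, 7, 4, 1], [7, 7, 0, 4], [2, 7, 5, 2], [4, 0, 5, 7], [0, 7, 1, 4], [2, 0, 5, 7], [6, 0, 7, 2], [6, 4, 7, 2], [4, 6, 6, 5], [2, 6, 6, 5], [2, 6, 6, 1], [4, 6, 6, 1], [0, 0, 0, 6, 6], [2, 6, 2], [4, 6, 2], [0, 6, 0], [1, 5], [0, 3, 5, 3], [0, 5, 3, 5], [5, 7, 4], [1, 7, 2], [5, 0, 6], [0, 0, 5, 1, 6], [6, 6, 6, 2], [4, 7, 2, 1], [2, 7, 2, 1], [0, 7, 5, 2], [6, 1, 6, 1], [5, 0, 0, 7], [0, 0, 5, 7], [4, 2, 5, 7], [7,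 4, 0, 4], [7, 4, 4, 2], [0, 6, 6, 5], [7, 2, 4, 4], [0, 6, 6, 1], [7, 0, 0, 0], [0, 2, 0, 6, 6], [0, 0, 5, 6, 4], [1, 5, 5, 0], [0, 5, 3, 1], [1, 1], [1, 4, 1, 3], [1, 1, 4, 1], [1, 1, 5, 0], [5, 7, 0], [0, 5, 6], [0, 3, 6], [6, 5, 2], [0, 0, 6, 5, 7], [6, 4, 3], [3, 4, 6], [6, 0, 3], [5, 7, 7, 7], [6, 2, 0, 6], [7, 5, 3, 7], [6, 0, 4, 6], [7, 1, 5, 7], [6, 4, 4, 6], [0, 7, 4, 3], [2, 7, 2, 5], [4, 7, 2, 5], [0, 5, 0, 7], [0, 2, 1, 7], [2, 1, 4, 7], [7, 7, 0, 2], [2, 7, 3, 4], [4, 7, 3, 4], [0, 7, 0, 3], [1, 4, 4, 7], [0, 4, 3, 7], [1, 4, 2, 7], [6, 6, 5, 6], [2, 6, 6, 3], [4, 6, 6, 3], [6, 6, 3, 6], [6, 2, 7, 0], [0, 0, 4, 6, 6], [0, 2, 1, 6, 4], [0, 0, 5, 6, 0], [0, 6, 2], [0, 2, 1, 6, 0], [0, 2, 1, 7, 0],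 [3, 5, 5, 6], [5, 3, 5, 6], [1, 1, 3, 6], [1, 6, 3, 7], [1, 1, 4], [5, 5, 2], [3, 4, 3], [1, 7, 2, 4], [0, 7, 5, 6], [1, 7, 2, 0], [1, 6, 2, 7], [1, 6, 4, 7], [5, 3, 7, 1], [3, 5, 7, 1], [0, 6, 2, 4], [1, 5, 7, 3], [6, 6, 6, 6], [2, 6, 4, 2], [4, 6, 4, 2], [0, 6, 6], [0, 2, 0, 6, 3], [0, 2, 4, 6, 5], [7, 4, 4, 6], [6, 0, 2, 1], [7, 4, 2, 6], [5, 2, 6, 2], [6, 2, 5, 2], [3, 4, 6, 4], [6, 0, 3, 4], [3, 4, 6, 0], [0, 0, 5, 7, 4], [6, 5, 6], [0, 2, 5, 7, 2], [6, 1, 6], [0, 0, 5, 7, 0], [2, 7, 2], [4, 7, 2], [3, 1, 5, 6], [4, 7, 7, 5], [2, 7, 7, 5], [1, 6, 1, 7], [0, 7, 7, 1], [5, 3, 1, 6], [1, 6, 5, 7], [2, 1, 5], [4, 1, 5], [1, 5, 0], [0, 5, 3], [1], [4, 3, 1], [1, 6, 0, 7], [3, 7, 0, 2], [7, 7, 0, 6], [0, 7,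 1, 6], [1, 3, 7, 5], [3, 1, 7, 1], [0, 6, 2, 0], [1, 1, 7, 3], [5, 5, 7, 5], [0, 0, 2, 6, 5], [0, 0, 4, 6, 3], [0, 0, 0, 6, 1], [6, 3, 4, 2], [5, 0, 6, 4], [2, 1, 6, 2], [4, 1, 6, 2], [5, 0, 6, 0], [6, 5, 2, 0], [0, 5, 6, 4], [0, 3, 6, 4], [1, 4, 6, 2], [0, 5, 6, 0], [0, 3, 6, 0], [6, 0, 0, 5], [4, 7, 4], [2, 7, 4], [0, 2, 5, 7, 0], [0, 7, 2], [5, 1, 3, 6], [1, 5, 1, 6], [2, 7, 7, 3], [4, 7, 7, 3], [0, 3, 1], [4, 1, 3], [0, 5, 1], [3, 7, 0, 0], [6, 6, 1, 5], [5, 7, 2, 0], [3, 7, 0, 4], [5, 6, 2, 7], [5, 6, 4, 7], [2, 6, 4, 4], [4, 6, 4, 4], [0, 0, 5, 6, 6], [0, 2, 4, 6, 3], [0, 2, 0, 6, 1], [6, 3, 4, 4], [2, 1, 6, 4], [4, 1, 6, 4], [6, 1, 4, 2], [2, 1, 6, 0], [4, 1, 6, 0], [6, 0, 4, 1], [2, 7, 0], [4, 7, 0],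 [0, 2, 5, 7, 4], [1, 1, 1, 6], [1, 5, 5, 6], [5, 6, 1, 7], [1, 1, 5, 6], [7, 0, 7, 7], [0, 7, 7, 5], [5, 6, 5, 7], [7, 4, 7, 7], [5, 5, 0], [1, 4, 3], [1, 3, 4], [4, 3, 5], [2, 5, 5], [5], [5, 6, 0, 7], [1, 7, 4, 2], [6, 6, 5, 1], [3, 7, 4, 4], [6, 6, 3, 1], [4, 7, 3, 6], [3, 7, 4, 0], [1, 7, 0, 2], [3, 5, 7, 5], [1, 5, 7, 1], [2, 6, 4, 0], [4, 6, 4, 0], [5, 1, 7, 3], [0, 6, 4, 2], [2, 6, 0, 4], [1, 1, 7, 1], [0, 6, 0, 2], [1, 3, 7, 3], [4, 6, 0, 0], [2, 6, 0, 0], [0, 2, 1, 6, 6], [0, 0, 2, 6, 3], [0, 0, 4, 6, 1], [0, 0, 0, 6, 5], [6, 0, 2, 5], [1, 4, 6, 4], [1, 4, 6, 0], [6, 2, 1, 4], [6, 2], [4, 3, 6, 2], [2, 5, 6, 2], [6, 0, 5, 2], [5, 2, 6, 0], [5, 5, 6], [0, 0, 7, 7, 3], [6, 3, 7], [0, 2, 5], [0, 0, 4,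 3, 1], [5, 2, 0], [1, 3, 7, 0], [2, 7, 5, 7], [4, 7, 5, 7], [6, 2, 4, 4], [7, 5, 7, 1], [2, 6, 4, 6], [4, 6, 4, 6], [1, 3, 5, 7], [5, 7, 2, 6], [0, 7, 7, 2], [6, 4, 7, 7], [6, 0, 7, 7], [2, 7, 7, 0], [3, 7, 0, 6], [7, 5, 1], [7, 3, 5], [7, 1, 3], [2, 1, 6, 6], [4, 1, 6, 6], [6, 6, 1, 4], [2, 0, 6, 1], [4, 0, 6, 1], [0, 2, 6, 5], [5, 1, 6], [1, 3, 6], [2], [4], [2, 5, 2], [0, 4, 1], [1, 4, 0], [0, 0, 0, 5, 1], [0, 7, 3, 7], [5, 3, 7, 4], [5, 5, 7, 0], [7, 7, 2, 7], [3, 1, 7, 4], [5, 1, 7, 0], [7, 7, 4, 7], [7, 3, 6, 5], [2, 7, 1, 7], [4, 7, 1, 7], [3, 5, 7, 2], [4, 6, 0, 6], [5, 5, 5, 7], [2, 6, 0, 6], [6, 4, 2, 4], [5, 1, 5, 7], [1, 3, 1, 7], [2, 0, 7, 1], [0, 2, 7, 5], [0, 0, 7, 3], [4, 2, 7, 3], [0, 7, 7,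 4], [0, 4, 7, 1], [2, 4, 7, 5], [4, 4, 7, 5], [3, 7, 4, 6], [0, 0, 2, 6, 0], [3, 7, 7], [0, 0, 0, 6, 2], [0, 0, 0, 6, 4], [0, 0, 6, 6, 3], [1, 4, 6, 6], [6, 6, 2, 5], [0, 4, 6, 1], [2, 4, 6, 5], [6, 2, 5, 6], [5, 2, 6, 6], [0, 0, 6, 3], [4, 2, 6, 3], [6, 2, 1, 6], [6, 6, 0, 3], [3, 1, 6], [3, 4, 2], [3, 4, 4], [2, 4, 3], [1, 1, 7, 4], [3, 5, 7, 0], [5, 3, 7, 0], [1, 5, 7, 2], [0, 7, 1, 7], [6, 0, 4, 2], [7, 5, 7, 5], [1, 1, 3, 7], [3, 5, 5, 7], [5, 3, 5, 7], [0, 4, 7, 5], [2, 4, 7, 3], [1, 7, 4, 6], [7, 1, 1], [7, 5, 5], [0, 2, 0, 6, 4], [0, 2, 0, 6, 2], [0, 0, 6, 6, 1], [6, 5, 0, 6], [0, 2, 6, 3], [6, 6, 5, 2], [6, 5, 7], [5, 3, 6], [3, 5, 6], [6, 1, 7], [4, 0, 5], [5, 0, 2], [2, 0, 5], [0, 3, 4], [0, 5,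 2], [0], [3, 1, 7, 0], [0, 7, 5, 7], [1, 5, 7, 4], [7, 1, 6, 1], [6, 2, 0, 4], [7, 3, 7, 3], [0, 6, 4, 6], [3, 1, 5, 7], [6, 4, 4, 4], [2, 6, 2, 6], [4, 6, 2, 6], [0, 6, 0, 6], [5, 3, 1, 7], [0, 7, 7, 0], [1, 7, 0, 6], [2, 0, 7, 5], [4, 0, 7, 5], [0, 0, 7, 1], [0, 2, 7, 3], [7, 0, 4, 7], [0, 0, 4, 6, 2], [0, 0, 4, 6, 4], [1, 7, 7], [0, 0, 0, 6, 0], [4, 3, 6, 6], [2, 5, 6, 6], [6, 6], [2, 4, 6, 3], [4, 4, 6, 3], [6, 0, 5, 6], [4, 2, 6, 1], [2, 0, 6, 5], [0, 0, 6, 1], [6, 1, 4, 6], [6, 6, 3, 4], [0, 4, 6, 5], [6, 0, 6, 1], [6, 3, 6, 6], [3, 6, 0, 0], [3, 6, 4, 2], [0, 0, 0, 2, 7], [3, 6, 3, 1], [7, 2, 7, 1], [3, 6, 3, 5], [3, 6, 5, 3], [3, 6, 1], [3, 6, 2], [3, 6, 4], [0, 2, 4, 7, 7], [5, 7, 3, 7], [6, 4, 6,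 2], [3, 7, 1, 7], [3, 6, 5, 0], [1, 4, 1, 6], [3, 1, 4, 6], [3, 6, 0, 5], [3, 6, 0, 3], [7, 2, 7, 4], [3, 6, 3, 4], [3, 6, 0, 2], [3, 6, 4, 4], [0, 7, 4, 6], [6, 0, 6, 5], [3, 6, 2, 0], [3, 6, 4, 0], [3, 6, 0, 4], [0, 7, 0, 6], [6, 4, 6, 5], [6, 4, 6], [6, 0, 6], [0, 0, 4, 0, 7], [0, 2, 0, 4, 7], [3, 6, 1, 5], [3, 6, 1, 1], [7, 2, 7, 3], [3, 6, 5, 5], [3, 6, 5, 1], [3, 6, 1, 3], [3, 6, 5], [7, 2, 7], [3, 6, 3], [0, 0, 2, 7, 7], [3, 6, 0], [5, 7, 5, 7], [6, 0, 6, 4], [6, 4, 6, 0], [2, 6, 6, 6], [4, 6, 6, 6], [6, 0, 6, 0], [6, 4, 6, 4], [3, 6, 1, 4], [0, 5, 5, 6], [0, 3, 5, 6], [3, 6, 5, 2], [2, 6, 1, 7], [4, 6, 1, 7], [3, 6, 2, 1], [3, 6], [3, 6, 4, 3], [2, 5, 3, 6], [1, 6, 4, 0], [1, 6, 2, 0], [1, 6, 0, 4],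 [0, 0, 4, 2, 7], [0, 0, 2, 4, 7], [1, 6, 5, 5], [7, 7, 7, 2], [1, 6, 5, 1], [1, 6, 1, 3], [1, 6, 3], [0, 6, 6, 6], [3, 7, 5, 7], [1, 6, 4, 3], [0, 5, 3, 6], [1, 6], [6, 5, 6, 6], [1, 6, 0, 0], [1, 6, 4, 2], [1, 6, 0, 2], [4, 7, 2, 6], [1, 6, 2, 4], [1, 6, 4, 4], [7, 7, 7], [0, 0, 2, 0, 7], [0, 2, 4, 4, 7], [1, 6, 3, 1], [6, 5, 1, 7], [1, 6, 3, 5], [1, 6, 5, 3], [1, 6, 1, 5], [1, 6, 1, 1], [7, 7, 7, 4], [6, 1, 1, 7], [7, 7, 7, 0], [1, 6, 1], [1, 6, 5], [1, 6, 2], [1, 6, 4], [0, 0, 0, 7, 7], [1, 6, 0], [7, 7, 7, 3], [7, 7, 7, 5], [1, 7, 1, 7], [3, 7, 3, 7], [3, 4, 3, 6], [1, 1, 4, 6], [1, 6, 5, 0], [1, 6, 0, 3], [1, 6, 0, 5], [1, 6, 3, 4], [4, 6, 5, 7], [1, 5, 0, 6], [2, 1, 5, 6], [1, 6, 1, 4], [1, 6, 5, 2],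 [2, 6, 3, 7], [1, 6, 2, 1], [0, 6, 1, 7], [0, 0, 7, 4, 4], [0, 0, 7, 0, 2], [0, 0, 6, 2, 7], [2, 4, 4, 7], [4, 4, 4, 7], [0, 0, 2, 7], [3, 7, 1], [0, 0, 6, 4, 4], [5, 7, 3], [3, 6, 6], [0, 0, 5, 6, 5], [7, 7, 2, 1], [0, 7, 3, 1], [2, 7, 3, 5], [5, 2, 7, 7], [7, 7, 3, 4], [7, 0, 5, 2], [7, 1, 4, 4], [5, 0, 7, 4], [7, 2, 1, 4], [7, 1, 4, 0], [5, 0, 7, 0], [7, 2], [4, 3, 7, 2], [2, 5, 7, 2], [0, 0, 4, 0], [0, 2, 0, 4], [4, 0, 2, 4], [0, 0, 7, 4, 0], [7, 4, 6, 4], [7, 0, 6, 4], [0, 4, 0, 7], [7, 4, 6, 0], [3, 6, 4, 6], [3, 6, 2, 6], [0, 2, 4, 7], [5, 7, 5], [0, 2, 6, 0, 0], [0, 0, 6, 0, 2], [0, 0, 6, 4, 0], [0, 2, 6, 0, 4], [0, 0, 5, 6, 3], [0, 0, 7, 2, 7], [0, 2, 1, 6, 5], [0, 2, 5, 6, 1], [0, 2, 1, 6, 3], [2,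 6, 1], [4, 6, 1], [4, 7, 1, 1], [2, 7, 1, 1], [4, 1, 7, 7], [2, 1, 7, 7], [2, 7, 5, 1], [4, 7, 5, 1], [7, 4, 3, 7], [7, 0, 3, 7], [1, 4, 7, 7], [7, 5, 0, 7], [6, 3, 1], [0, 3, 7, 4], [0, 5, 7, 4], [0, 3, 7, 0], [0, 5, 7, 0], [3, 6, 5, 6], [3, 4, 7, 4], [3, 4, 7, 0], [6, 2, 7, 3], [0, 4, 4, 2], [0, 4, 2, 4], [0, 0, 0, 2], [1, 1, 5, 5], [0, 0, 4, 4], [7, 7, 5, 7], [6, 4, 6, 6], [0, 0, 7, 2, 4], [1, 6, 2, 6], [1, 6, 4, 6], [4, 0, 4, 7], [2, 0, 4, 7], [3, 7, 5], [2, 6, 3], [4, 6, 3], [0, 6, 1], [2, 7, 5, 5], [0, 7, 5, 1], [7, 7, 4, 3], [2, 7, 1, 3], [4, 7, 1, 3], [6, 1, 1], [1, 4, 7, 4], [7, 2, 0, 5], [1, 6, 5, 6], [1, 4, 7, 0], [7, 5, 0, 0], [7, 2, 5, 2], [7, 1, 4, 2], [5, 0, 7, 2], [7, 0, 3, 4], [0, 2, 4, 4],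 [1, 3, 5, 5], [0, 0, 7, 2, 0], [0, 0, 6, 0, 7], [0, 0, 7, 4, 2], [7, 0, 6, 2], [0, 0, 0, 7], [0, 4, 4, 7], [6, 6, 6, 1], [2, 4, 2, 7], [4, 4, 2, 7], [1, 7, 1], [0, 0, 6, 2, 0], [0, 0, 6, 4, 2], [0, 0, 6, 2, 4], [3, 7, 3], [1, 6, 6], [0, 2, 5, 6, 5], [0, 0, 7, 0, 7], [0, 2, 5, 6, 3], [4, 6, 5], [2, 6, 5], [7, 7, 2, 5], [0, 7, 3, 5], [2, 7, 5, 3], [4, 7, 5, 3], [2, 7, 1, 5], [0, 7, 1, 1], [7, 7, 5, 0], [7, 7, 1, 4], [7, 4, 1, 7], [2, 5, 7, 7], [7, 7], [4, 3, 7, 7], [6, 5, 1], [6, 3, 5], [5, 2, 7, 4], [6, 4, 7, 5], [5, 2, 7, 0], [6, 0, 7, 5], [0, 5, 7, 2], [0, 3, 7, 2], [4, 1, 7, 4], [1, 6, 1, 6], [4, 1, 7, 0], [2, 1, 7, 0], [3, 4, 7, 2], [0, 0, 2, 4], [2, 4, 4, 4], [0, 0, 4, 2], [0, 4, 0, 4], [0, 0, 2, 0], [1,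 3, 1, 5], [1, 5, 7], [0, 2, 6, 0, 6], [7, 0, 6, 6], [0, 7, 4, 4], [7, 4, 6, 6], [0, 0, 7, 1, 5], [0, 2, 1, 7, 7], [0, 0, 6, 1, 5], [6, 6, 5], [0, 0, 6, 5, 1], [0, 2, 6, 1, 1], [3, 1, 6, 3], [0, 2, 0, 6], [4, 0, 2, 6], [7, 1, 5, 1], [7, 5, 5, 5], [7, 1, 1, 3], [0, 6, 6, 2], [1, 5, 0, 2], [5, 0], [0, 0, 5, 1], [7, 2, 1, 6], [7, 5, 2, 6], [7, 2, 5, 6], [0, 0, 6, 4, 6], [1, 1, 7], [0, 0, 7, 4, 6], [6, 2, 0], [6, 4, 4], [6, 0, 4], [0, 7, 2, 0], [2, 7, 4, 0], [0, 7, 0, 4], [0, 6, 2, 7], [4, 7, 0, 0], [2, 7, 0, 0], [6, 1, 6, 2], [0, 0, 7, 5, 1], [0, 0, 7, 1, 3], [0, 0, 5, 7, 7], [6, 6, 3], [0, 0, 6, 1, 3], [6, 5, 7, 3], [6, 1, 7, 5], [1, 7, 2, 7], [5, 3, 6, 5], [1, 5, 6, 1], [3, 5, 6, 5], [6, 1, 7, 3], [5, 7, 0,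 7], [5, 3, 6, 3], [3, 5, 6, 3], [1, 1, 6, 1], [3, 1, 6, 5], [0, 4, 2, 6], [4, 4, 0, 6], [5, 7, 7, 1], [0, 0, 4, 6], [4, 2, 4, 6], [4, 6, 6, 4], [1, 7, 7, 3], [1, 7, 7, 5], [0, 3, 4, 3], [0, 5], [0, 3], [6, 5, 2, 7], [3, 4], [1, 1, 4, 2], [0, 4, 3, 1], [6, 0, 3, 7], [0, 0, 6, 2, 6], [5, 5, 7], [6, 4, 0], [6, 0, 0], [0, 7, 0, 0], [2, 7, 4, 2], [4, 7, 4, 2], [0, 2, 5, 7, 7], [0, 0, 6, 3, 1], [1, 5, 6, 3], [1, 1, 6, 5], [1, 3, 6, 1], [0, 2, 4, 6], [7, 3, 1, 5], [7, 5, 3, 5], [0, 6, 6, 4], [7, 5, 1, 1], [7, 1, 5, 5], [7, 1, 5, 3], [0, 4, 3, 5], [0, 4, 1, 1], [1, 4], [7, 4, 3, 6], [7, 3, 4, 6], [7, 0, 3, 6], [5, 1, 7], [1, 3, 7], [0, 0, 7, 2, 6], [2, 7, 2, 4], [4, 7, 2, 4], [6, 1, 6, 4], [6, 3, 6, 0], [2, 7, 0,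 2], [4, 7, 0, 2], [2, 6, 4, 7], [2, 6, 0, 7], [4, 6, 0, 7], [0, 7, 4, 0], [0, 0, 7, 5, 5], [2, 7, 7], [4, 7, 7], [0, 0, 7, 3, 1], [0, 0, 7, 5, 3], [0, 0, 6, 5, 5], [0, 0, 6, 5, 3], [7, 7, 1, 6], [6, 3, 7, 1], [3, 7, 0, 7], [1, 1, 6, 3], [7, 7, 5, 6], [5, 5, 6, 1], [1, 5, 6, 5], [2, 4, 4, 6], [4, 4, 4, 6], [0, 0, 2, 6], [0, 4, 0, 6], [5, 7, 7, 5], [2, 6, 6, 0], [4, 6, 6, 0], [5, 2], [0, 0, 5, 3], [0, 5, 5, 0], [6, 2, 1, 7], [0, 2, 1, 5], [2, 1], [4, 1], [6, 3, 4, 7]]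

theorem tw_length : tw.length = 1945 := by decide +kernel

theorem tw_ok : incB 0 (tw.map (evA sc idC)) = true := by decide +kernel

theorem tw_lt : ∀ w ∈ tw, ∀ j ∈ w, j < 8 := by decide +kernel

end Cfsg.Agent.Helper89.J3c
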