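import Cfsg.Agent.Helper89.Level

/-! # Certificate: the double cover of `M12` over `M11` (helper89)

Generated data: a labelled coset table with 24 rows, 8 symbols, 23 exact relators and
3 relators known only up to central involutions. -/

set_option autoImplicit false
set_option maxRecDepth 100000

namespace Cfsg.Agent.Helper89.M12cC

def tab : ℕ := 0x8bded9528d6b2d6b5ad64495374dd43ad72bb2b7542aea9db2aa2906de667de313b8cc9aa485a165bc5977bd4428e658d4f565ae364af3b346fa3627a1d142407084cb51250f218c2514a29560b80c4a5d0419c58e4902931a511b9ca48609324841ade1715ac4102b081270a928008e6288831040000000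
def ltab : ℕ := 0xf6dc486249120012481bc28150d22d020ba85c0d86884040a85b60c2ec596e81450c0436dbfa0049016c155b20027305c381b3b42d80db2804a2d14018080002f200000040000000
def par : ℕ := 0x6b107398c520c63188420842108000
def gam : ℕ := 0x176631011754021054310760
def ex : List (List ℕ) := [[0, 0, 0, 0, 0, 0, 0, 0, 0, 0, 0], [2, 2, 2, 2, 2], [2, 0, 3, 1, 1, 1], [4, 4, 4, 4, 4], [2, 2, 4, 2, 2, 4], [0, 0, 0, 0, 3, 1, 2], [0, 0, 0, 3, 0, 0, 2], [0, 0, 2, 2, 0, 3, 3], [0, 2, 0, 3, 3, 1, 2], [0, 2, 1, 2, 1, 3, 3], [0, 4, 1, 4, 1, 3, 5], [2, 2, 2, 5, 3, 3, 5], [0, 0, 2, 2, 0, 2, 2, 2], [0, 0, 3, 0, 3, 0, 2, 2], [0, 0, 3, 3, 0, 2, 0, 2], [0, 0, 3, 3, 3, 0, 3, 3], [0, 0, 5, 3, 5, 0, 3, 5], [0, 2, 0, 2, 2, 2, 1, 2], [0, 2, 0, 3, 1, 2, 1, 3], [0, 2, 1, 2, 1, 2, 2, 2], [0, 2, 4, 3, 1, 4, 2, 5], [2, 2, 2, 5, 2, 2, 2, 5], [6, 6, 6]]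
def ws : List (List ℕ) := [[0, 4, 3, 7, 3, 7, 3, 3], [0, 6, 3, 4, 3, 6, 4, 4], [0, 2, 7, 5, 0, 3, 7, 0, 5]]
def steps : List (ℕ × ℕ × ℕ) := [
  (0, 22, 1), (0, 23, 4), (0, 24, 3), (9, 24, 7), (0, 25, 3), (16, 25, 8), (1, 3, 3), (5, 23, 0), (5, 2, 2), (10, 5, 0), (10, 2, 0), (1, 1, 3),
  (9, 2, 3), (16, 2, 0), (1, 2, 3), (2, 2, 2), (3, 2, 0), (8, 2, 2), (11, 2, 0), (4, 4, 5), (4, 10, 3), (6, 10, 1), (16, 10, 3), (1, 16, 6),
  (2, 16, 6), (4, 16, 3), (6, 16, 1), (6, 2, 3), (18, 2, 0), (12, 4, 1), (18, 5, 5), (23, 5, 2), (9, 10, 3), (23, 10, 6), (3, 3, 2), (9, 23, 3),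
  (16, 23, 5), (3, 22, 1), (1, 23, 2), (12, 23, 5), (8, 22, 1), (12, 1, 3), (20, 2, 5), (3, 4, 2), (8, 3, 2), (10, 23, 4), (23, 23, 5), (12, 22, 1),
  (20, 23, 4), (4, 24, 5), (16, 24, 2), (17, 24, 5), (18, 24, 5), (20, 24, 1), (23, 24, 3), (7, 22, 2), (15, 22, 1), (7, 1, 3), (19, 2, 1), (21, 2, 5),
  (7, 2, 4), (1, 4, 2), (5, 4, 5), (17, 4, 2), (5, 3, 3), (2, 23, 5), (4, 23, 5), (7, 23, 3), (11, 23, 3), (22, 23, 0)]
def E₀ : ℕ := 0x140808004010201014012a00208014258230603b347bbff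
def cl : List (List (ℕ × ℕ)) := [[(22, 0), (6, 0)], [(22, 0)], [(22, 0), (6, 0), (1, 0)]]

theorem pre_ok : LT.preChk 24 8 (tbl 5 8 tab) (tbl 3 8 ltab) (vec 5 par) (vec 4 gam) [0, 1, 2, 3, 4, 5] = some E₀ := by
  decide +kernel

theorem run_ok : LT.runSteps (tbl 5 8 tab) (tbl 3 8 ltab) 8 (Level.relsOf ex ws) E₀ steps = some (2 ^ (24 * 8) - 1) := by
  decide +kernel

theorem cl_ok : Level.closeAll (tbl 5 8 tab) (tbl 3 8 ltab) 8 24 (Level.relsOf ex ws) cl 3 = true := by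
  decide +kernel

end Cfsg.Agent.Helper89.M12cC
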