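import Cfsg.Agent.Helper89.Level

/-! # Certificate: `M24` over `M23` (helper89)

Generated data: a labelled coset table with 24 rows, 10 symbols, 32 exact relators and
4 relators known only up to central involutions. -/

set_option autoImplicit false
set_option maxRecDepth 100000

namespace Cfsg.Agent.Helper89.M24C

def tab : ℕ := 0x9b2d4bded35b1ca7deac6dd935c94f8599283511b9a94328ea65daa696f1b46ab824b1ac1aba20ad9366d994ef34975914b581eb63a0894a15659cc751d0448e338ce36acaf340ecb2d6f69546e6416b95ece9d469a3a891b648511e353e344b1e6191ee7c1c473dc61d0a4a410e3d043218319ca0c8c0c53892143dc26a58b0a92831c2020442108860084520c21084410000000000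
def ltab : ℕ := 0x1bbc880b0b200b50b0b3340305b0eb61c0bb0f7fa1bb60bb3347e80506b8170853b530681e30680e8e303000b0220bcb30b0e08b365bbbba00085bbb730083008002b00bf3f3ee80bb003b760004000be6b0b30c0706014cc00760000085006607b000070e00000070007133bb7000100033000000000000
def par : ℕ := 0x5a946294a52106318c631882108000
def gam : ℕ := 0x96254102197643200654980
def ex : List (List ℕ) := [[0, 0, 0, 0, 0, 0, 0, 0, 0, 0, 0], [2, 2, 2, 2, 2], [2, 0, 3, 1, 1, 1], [4, 4, 4, 4, 4], [2, 2, 4, 2, 2, 4], [0, 0, 0, 0, 3, 1, 2], [0, 0, 0, 3, 0, 0, 2], [0, 0, 2, 2, 0, 3, 3], [0, 2, 0, 3, 3, 1, 2], [0, 2, 1, 2, 1, 3, 3], [0, 4, 1, 4, 1, 3, 5], [2, 2, 2, 5, 3, 3, 5], [0, 0, 2, 2, 0, 2, 2, 2], [0, 0, 3, 0, 3, 0, 2, 2], [0, 0, 3, 3, 0, 2, 0, 2], [0, 0, 3, 3, 3, 0, 3, 3], [0, 0, 5, 3, 5, 0, 3, 5], [0, 2, 0, 2, 2, 2, 1, 2], [0, 2, 0, 3, 1, 2, 1, 3], [0,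 2, 1, 2, 1, 2, 2, 2], [0, 2, 4, 3, 1, 4, 2, 5], [2, 2, 2, 5, 2, 2, 2, 5], [6, 6, 6, 6, 6, 6, 6, 6, 6, 6, 6, 6, 6, 6, 6, 6, 6, 6, 6, 6, 6, 6, 6], [0, 6, 1, 7, 7], [0, 0, 0, 6, 0, 6, 3, 1, 2, 7], [0, 0, 0, 6, 6, 6, 1, 1, 1, 7], [0, 0, 0, 6, 6, 6, 2, 1, 3, 7], [0, 5, 2, 6, 3, 3, 7, 4, 2, 2, 7], [0, 7, 5, 3, 7, 3, 4, 4, 6, 6, 4], [0, 0, 0, 6, 0, 4, 3, 4, 6, 5, 0, 5], [0, 0, 5, 5, 6, 5, 3, 6, 3, 3, 5, 6], [8, 8, 8]]
def ws : List (List ℕ) := [[6, 9, 6, 9], [0, 2, 7, 8, 3, 7, 8], [0, 2, 5, 6, 8, 0, 2, 5, 6, 8], [0, 2, 8, 2, 8, 5, 2, 9, 2, 9]]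
def steps : List (ℕ × ℕ × ℕ) := [
  (0, 31, 1), (0, 32, 2), (2, 23, 1), (0, 33, 4), (1, 33, 0), (1, 23, 3), (1, 4, 4), (3, 1, 3), (0, 34, 8), (1, 32, 1), (4, 23, 0), (4, 10, 1),
  (4, 16, 2), (0, 35, 6), (8, 2, 5), (8, 5, 4), (15, 5, 0), (2, 2, 4), (15, 2, 1), (9, 2, 2), (14, 2, 1), (1, 10, 3), (14, 10, 6), (15, 10, 6),
  (6, 3, 2), (10, 4, 0), (6, 1, 1), (3, 2, 3), (7, 2, 3), (6, 4, 2), (7, 4, 2), (1, 3, 3), (5, 33, 1), (4, 33, 6), (4, 31, 1), (2, 24, 3),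
  (4, 24, 5), (6, 32, 1), (3, 23, 3), (7, 23, 1), (11, 23, 3), (20, 23, 2), (23, 23, 0), (5, 32, 1), (8, 23, 4), (7, 24, 3), (8, 24, 8), (14, 24, 5),
  (2, 33, 3), (17, 33, 3), (8, 31, 2), (5, 14, 2), (20, 33, 3), (10, 32, 3), (10, 31, 1), (5, 34, 3), (6, 34, 3), (8, 34, 6), (15, 34, 9), (7, 31, 2),
  (5, 1, 3), (9, 23, 2), (12, 23, 1), (22, 23, 0), (19, 32, 3), (12, 31, 0), (12, 32, 2), (21, 23, 0), (5, 2, 2), (16, 2, 3), (17, 2, 0), (18, 2, 5),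
  (21, 2, 2), (6, 23, 3), (13, 23, 1), (16, 32, 1), (11, 31, 2), (3, 32, 3), (3, 31, 1), (9, 32, 2), (17, 23, 2), (11, 2, 2), (13, 2, 2), (19, 2, 0),
  (5, 4, 2), (19, 10, 1), (22, 10, 6), (12, 4, 2), (13, 4, 2), (5, 3, 3), (12, 10, 6), (16, 10, 6), (18, 10, 1)]
def E₀ : ℕ := 0x90020008040200040202001400402066001008008062cc16bf5019c3ff
def cl : List (List (ℕ × ℕ)) := [[(1, 1), (5, 0), (2, 0), (3, 33)], [(5, 0), (2, 0), (3, 33)], [(2, 0), (3, 33)], [(1, 1), (2, 0)]]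

theorem pre_ok : LT.preChk 24 10 (tbl 5 10 tab) (tbl 4 10 ltab) (vec 5 par) (vec 4 gam) [0, 1, 2, 3, 4, 5, 6, 7] = some E₀ := by
  decide +kernel

theorem run_ok : LT.runSteps (tbl 5 10 tab) (tbl 4 10 ltab) 10 (Level.relsOf ex ws) E₀ steps = some (2 ^ (24 * 10) - 1) := by
  decide +kernel

theorem cl_ok : Level.closeAll (tbl 5 10 tab) (tbl 4 10 ltab) 10 24 (Level.relsOf ex ws) cl 4 = true := by
  decide +kernel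

end Cfsg.Agent.Helper89.M24C
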