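import Cfsg.Agent.Helper89.CoxP

/-! # Chain certificate: the Coxeter group `W(E7)` (helper89)

Generated data: coset tables for the chain of parabolic subgroups
`W(A1) < W(A2) < W(A3) < W(A4) < W(D5) < W(E6) < W(E7)`, with the Coxeter relators written as relators
of conjugation type. -/

set_option autoImplicit false
set_option maxRecDepth 100000

namespace Cfsg.Agent.Helper89.Sp62x

open Cfsg.Agent.Helper89

def ps : List (ℕ × ℕ) := [(0, 2), (1, 2), (2, 2), (3, 2), (4, 2), (5, 2), (6, 2)]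

/-- The Coxeter relators, in the form `u a u⁻¹ b`. -/
def cr : List (List ℕ) := [[0, 2, 0, 3, 1, 2], [0, 4, 1, 4], [2, 4, 2, 5, 3, 4], [0, 6, 1, 6], [2, 6, 3, 6], [4, 6, 4, 7, 5, 6], [0, 8, 1, 8], [2, 8, 3, 8], [4, 8, 4, 9, 5, 8], [6, 8, 7, 8], [0, 10, 1, 10], [2, 10, 3, 10], [4, 10, 5, 10], [6, 10, 6, 11, 7, 10], [8, 10, 9, 10], [0, 12, 1, 12], [2, 12, 3, 12], [4, 12, 5, 12], [6, 12, 7, 12], [8, 12, 9, 12], [10, 12, 10, 13, 11, 12]]

/-- All relators. -/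
def E : List (List ℕ) := Chain.powW ps ++ cr

def L0 : Chain.LD where
  n := 2
  k := 2
  k₀ := 0
  T := tbl 1 2 0x3
  Lb := tbl 1 2 0x0
  par := vec 1 0x0
  gam := vec 4 0x0
  S := []
  ex := [[0, 0]]
  ws := []
  steps := [
  (0, 0, 1)]
  E₀ := 0x9
  cl := []

theorem L0_valid : L0.Valid :=
  ⟨by decide +kernel, by decide +kernel, by decide +kernel, by decide, by decide, by decide⟩

def L1 : Chain.LD where
  n := 3
  k := 4
  k₀ := 2
  T := tbl 2 4 0xa50a50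
  Lb := tbl 1 4 0x0
  par := vec 2 0x10
  gam := vec 4 0x20
  S := [0, 1]
  ex := [[0, 0], [2, 2], [0, 2, 0, 3, 1, 2]]
  ws := []
  steps := [
  (1, 0, 1), (0, 1, 1), (0, 2, 3)]
  E₀ := 0x297
  cl := []

theorem L1_valid : L1.Valid :=
  ⟨by decide +kernel, by decide +kernel, by decide +kernel, by decide, by decide, by decide⟩

def L2 : Chain.LD where
  n := 4
  k := 6
  k₀ := 4
  T := tbl 2 6 0xffaa5f0a5500
  Lb := tbl 1 6 0x0
  par := vec 2 0x90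
  gam := vec 4 0x240
  S := [0, 1, 2, 3]
  ex := [[0, 0], [2, 2], [4, 4], [0, 2, 0, 3, 1, 2], [0, 4, 1, 4], [2, 4, 2, 5, 3, 4]]
  ws := []
  steps := [
  (2, 0, 1), (1, 1, 1), (0, 2, 1), (0, 4, 2), (1, 3, 3), (0, 5, 3), (2, 4, 1)]
  E₀ := 0x8991f
  cl := []

theorem L2_valid : L2.Valid :=
  ⟨by decide +kernel, by decide +kernel, by decide +kernel, by decide, by decide, by decide⟩

def L3 : Chain.LD where
  n := 5
  k := 8
  k₀ := 6
  T := tbl 3 8 0x92491b6db4a44896d2012249240000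
  Lb := tbl 1 8 0x0
  par := vec 3 0x3440
  gam := vec 4 0x2460
  S := [0, 1, 2, 3, 4, 5]
  ex := [[0, 0], [2, 2], [4, 4], [6, 6], [0, 2, 0, 3, 1, 2], [0, 4, 1, 4], [2, 4, 2, 5, 3, 4], [0, 6, 1, 6], [2, 6, 3, 6], [4, 6, 4, 7, 5, 6]]
  ws := []
  steps := [
  (3, 0, 1), (2, 1, 1), (1, 2, 1), (0, 3, 1), (0, 7, 2), (1, 5, 2), (0, 8, 2), (2, 4, 3), (1, 6, 3), (3, 5, 1), (0, 9, 3), (2, 8, 1),
  (3, 7, 1)]
  E₀ := 0x20924907f
  cl := []

theorem L3_valid : L3.Valid :=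
  ⟨by decide +kernel, by decide +kernel, by decide +kernel, by decide, by decide, by decide⟩

def L4 : Chain.LD where
  n := 16
  k := 10
  k₀ := 8
  T := tbl 4 10 0xffeeffffffeeffddeeeebbddeeccdd99ccccddaaddbbbb99bb88aaaaaacccc9977bb88aa8866889977559977666633884477557755553344224466443366332255224411332200112211111100000000
  Lb := tbl 1 10 0x0
  par := vec 4 0xedb9987653322100
  gam := vec 4 0x6488284466062480
  S := [0, 1, 2, 3, 4, 5, 6, 7]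
  ex := [[0, 0], [2, 2], [4, 4], [6, 6], [8, 8], [0, 2, 0, 3, 1, 2], [0, 4, 1, 4], [2, 4, 2, 5, 3, 4], [0, 6, 1, 6], [2, 6, 3, 6], [4, 6, 4, 7, 5, 6], [0, 8, 1, 8], [2, 8, 3, 8], [4, 8, 4, 9, 5, 8], [6, 8, 7, 8]]
  ws := []
  steps := [
  (3, 0, 1), (2, 1, 1), (9, 1, 1), (1, 2, 1), (6, 2, 1), (7, 2, 1), (13, 2, 1), (2, 3, 1), (3, 3, 1), (5, 3, 1), (14, 3, 1), (0, 4, 1),
  (8, 4, 1), (9, 4, 1), (11, 4, 1), (3, 8, 2), (5, 8, 2), (6, 6, 2), (7, 6, 2), (2, 9, 2), (3, 9, 2), (0, 11, 2), (8, 11, 2), (9, 11, 2),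
  (1, 6, 2), (2, 8, 2), (0, 12, 2), (9, 12, 2), (11, 12, 2), (0, 14, 2), (2, 5, 3), (4, 5, 3), (1, 7, 3), (7, 7, 3), (3, 6, 1), (1, 10, 2),
  (3, 10, 3), (5, 10, 3), (9, 9, 1), (8, 14, 2), (9, 14, 2), (11, 14, 2), (4, 7, 2), (8, 12, 2), (8, 5, 2), (10, 5, 2), (13, 6, 2), (14, 8, 2),
  (13, 10, 2), (0, 13, 3), (11, 13, 3), (2, 12, 1), (3, 11, 1), (2, 14, 1), (3, 14, 1), (5, 14, 1), (14, 14, 1), (6, 13, 2), (7, 13, 2), (12, 7, 2),
  (14, 9, 2)]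
  E₀ := 0x20060842004220049120240901088012464841ff
  cl := []

theorem L4_valid : L4.Valid :=
  ⟨by decide +kernel, by decide +kernel, by decide +kernel, by decide, by decide, by decide⟩

def L5 : Chain.LD where
  n := 27
  k := 12
  k₀ := 10
  T := tbl 5 12 0xd6b5ad6b5ad6b39ce739ce739c635ac6318c62f7ce718bded6ad718bdef7b5af7a52d6b5ad69ce94bdeb5ad6b58c6b5b5a52a5294ad6319ce739ce737be5294a9484252a52738c5ef8c6316b61084210949ce949ef632316b5ef5adce739ce73a10841ad529ad7bd6b6318c7bd8c5298c7396b4a56b5adad5294a6b508631294a5295ace74a54a420c64214a420e739c8439d292950831908318c63188429463294a539ca5210e72108418cc618ca518c4221063108420846310842000211082108421084000000000000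
  Lb := tbl 1 12 0x0
  par := vec 5 0x6717ad2718bded62d4a4a0e62106310400
  gam := vec 4 0x2466aa8a4a6a626448808246a0
  S := [0, 1, 2, 3, 4, 5, 6, 7, 8, 9]
  ex := [[0, 0], [2, 2], [4, 4], [6, 6], [8, 8], [10, 10], [0, 2, 0, 3, 1, 2], [0, 4, 1, 4], [2, 4, 2, 5, 3, 4], [0, 6, 1, 6], [2, 6, 3, 6], [4, 6, 4, 7, 5, 6], [0, 8, 1, 8], [2, 8, 3, 8], [4, 8, 4, 9, 5, 8], [6, 8, 7, 8], [0, 10, 1, 10], [2, 10, 3, 10], [4, 10, 5, 10], [6, 10, 6, 11, 7, 10], [8, 10, 9, 10]]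
  ws := []
  steps := [
  (4, 0, 1), (25, 0, 1), (3, 1, 1), (10, 1, 1), (24, 1, 1), (2, 2, 1), (7, 2, 1), (8, 2, 1), (15, 2, 1), (23, 2, 1), (1, 3, 1), (9, 3, 1),
  (10, 3, 1), (12, 3, 1), (20, 3, 1), (21, 3, 1), (3, 4, 1), (4, 4, 1), (6, 4, 1), (17, 4, 1), (0, 5, 1), (11, 5, 1), (13, 5, 1), (15, 5, 1),
  (17, 5, 1), (19, 5, 1), (10, 10, 2), (12, 10, 2), (4, 12, 2), (6, 12, 2), (7, 7, 2), (8, 7, 2), (9, 9, 2), (10, 9, 2), (3, 13, 2), (4, 13, 2),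
  (0, 16, 2), (11, 16, 2), (13, 16, 2), (1, 9, 2), (2, 7, 2), (3, 12, 2), (0, 17, 2), (13, 17, 2), (15, 17, 2), (1, 10, 2), (0, 18, 2), (15, 18, 2),
  (17, 18, 2), (0, 20, 2), (17, 20, 2), (19, 20, 2), (1, 15, 1), (20, 15, 1), (21, 15, 1), (3, 6, 3), (5, 6, 3), (2, 8, 3), (8, 8, 3), (4, 7, 1),
  (1, 11, 3), (12, 11, 3), (3, 10, 1), (4, 9, 1), (3, 15, 2), (4, 15, 2), (6, 15, 2), (17, 15, 2), (7, 11, 2), (8, 11, 2), (11, 18, 2), (13, 18, 2),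
  (13, 8, 2), (16, 8, 2), (20, 10, 2), (17, 13, 2), (20, 13, 2), (22, 13, 2), (23, 8, 3), (25, 7, 1), (2, 14, 2), (4, 14, 3), (6, 14, 3), (10, 13, 1),
  (9, 15, 1), (10, 15, 1), (12, 15, 1), (11, 20, 2), (13, 20, 2), (15, 20, 2), (5, 8, 2), (9, 10, 2), (11, 17, 2), (9, 6, 2), (11, 6, 2), (14, 6, 2),
  (15, 7, 2), (18, 7, 2), (20, 9, 2), (17, 12, 2), (20, 12, 2), (22, 12, 2), (23, 7, 2), (24, 6, 3), (15, 14, 2), (18, 14, 2), (21, 11, 3), (24, 10, 1),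
  (25, 9, 1), (0, 19, 3), (17, 19, 3), (19, 19, 3), (2, 18, 1), (23, 18, 1), (3, 17, 1), (24, 17, 1), (4, 16, 1), (25, 16, 1), (3, 20, 1), (4, 20, 1),
  (6, 20, 1), (7, 18, 1), (8, 18, 1), (10, 17, 1), (9, 19, 2), (10, 19, 2), (12, 19, 2), (18, 11, 2), (22, 14, 3), (24, 13, 1), (25, 12, 1)]
  E₀ := 0x20090240900808408406008005208004908004800484800640602102101022001091240908407ff
  cl := []

theorem L5_valid : L5.Valid :=
  ⟨by decide +kernel, by decide +kernel, by decide +kernel, by decide, by decide, by decide⟩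

def L6 : Chain.LD where
  n := 56
  k := 14
  k₀ := 12
  T := tbl 6 14 0xdb6df7df7df7df7df7df7df7d75db6db6db6db6db6d75db6d75d34d75d75d75d34d34d34d75cf3d34d34cf3cf3c71cf3d34cb2cf3cb2cb2befcb2cb2cf3c30c71c71cf3c71c71befc71c30c30baec30c30c30cb2befbefcb2befb6dc71baebaebaec30baeb2cbaebefb6db6db6daebbefb6db2cb2cb2cb2ca69baeaaab6daeba28aebb6daebaeba69aaaaaaaaa9e7aaab2caaaa699a6a69b2ca699e7aeb965aeba28a28a28a289a69e78e39e7aaa924a699e78a2a699a69a69a68e3a28a289659659659659658a29248208619249e79249247df9e78e38e38209a68e39a68a28a28a28a27df96586179e92486186186186171c92479e75d8e38208208e37df7df7df71c8a27df69a8618206db79e79e79e65975d6db82075d75d75d82071c69a6597df71c71c5d76db75d79e6186db6db79e69a71c5d769a69a69a75d5965d771c6596596595146186186186db5556186db4d365969a5145d75d75966594d35965965965964515555555555556184926184105145145d74515144d35d75964d34104d34d33cf49249249249249255555538e4514514515143cf41051441034d4d338e41049230c3cf3cf3cf3cf45138e45138e2cb38e41030c34d34d34d41034d2cb34d30c3cf30c28a30c30c38e2cb2cb2cb38e24934d28a28a28a28a30c20828a2cb2492491c72492cb24920820820814520828a1862491c71c72491c71c71c71451861861041861862081861451452081451451041c71041041861040c31451040c30c30c30821040c30c30820410820c3082082082000082041041041041041041000000000000000000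
  Lb := tbl 1 14 0x0
  par := vec 6 0xdb5d33c6fbeeb6cae9a279a58e28a07df79c71a6595d75944d345040f38d30b2ca2481c5144103081000
  gam := vec 4 0xca6488284466a6acac0ac2ac4cc6c6aca8ca4ca6a626448808246ac0
  S := [0, 1, 2, 3, 4, 5, 6, 7, 8, 9, 10, 11]
  ex := [[0, 0], [2, 2], [4, 4], [6, 6], [8, 8], [10, 10], [12, 12], [0, 2, 0, 3, 1, 2], [0, 4, 1, 4], [2, 4, 2, 5, 3, 4], [0, 6, 1, 6], [2, 6, 3, 6], [4, 6, 4, 7, 5, 6], [0, 8, 1, 8], [2, 8, 3, 8], [4, 8, 4, 9, 5, 8], [6, 8, 7, 8], [0, 10, 1, 10], [2, 10, 3, 10], [4, 10, 5, 10], [6, 10, 6, 11, 7, 10], [8, 10, 9, 10], [0, 12, 1, 12], [2, 12, 3, 12], [4, 12, 5, 12], [6, 12, 7, 12], [8, 12, 9, 12], [10, 12, 10, 13, 11, 12]]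
  ws := []
  steps := [
  (5, 0, 1), (34, 0, 1), (4, 1, 1), (11, 1, 1), (31, 1, 1), (47, 1, 1), (3, 2, 1), (8, 2, 1), (9, 2, 1), (16, 2, 1), (28, 2, 1), (44, 2, 1),
  (45, 2, 1), (51, 2, 1), (2, 3, 1), (10, 3, 1), (11, 3, 1), (13, 3, 1), (23, 3, 1), (25, 3, 1), (39, 3, 1), (41, 3, 1), (43, 3, 1), (52, 3, 1),
  (4, 4, 1), (5, 4, 1), (7, 4, 1), (19, 4, 1), (46, 4, 1), (47, 4, 1), (49, 4, 1), (1, 5, 1), (12, 5, 1), (14, 5, 1), (16, 5, 1), (19, 5, 1),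
  (22, 5, 1), (30, 5, 1), (32, 5, 1), (35, 5, 1), (38, 5, 1), (40, 5, 1), (53, 5, 1), (0, 6, 1), (15, 6, 1), (17, 6, 1), (20, 6, 1), (23, 6, 1),
  (25, 6, 1), (26, 6, 1), (28, 6, 1), (31, 6, 1), (34, 6, 1), (37, 6, 1), (54, 6, 1), (11, 11, 2), (13, 11, 2), (5, 13, 2), (7, 13, 2), (8, 8, 2),
  (9, 8, 2), (10, 10, 2), (11, 10, 2), (4, 14, 2), (5, 14, 2), (47, 14, 2), (49, 14, 2), (12, 17, 2), (14, 17, 2), (14, 18, 2), (16, 18, 2), (16, 19, 2),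
  (19, 19, 2), (19, 21, 2), (22, 21, 2), (23, 16, 1), (25, 16, 1), (0, 22, 2), (15, 22, 2), (17, 22, 2), (34, 22, 2), (37, 22, 2), (1, 17, 2), (38, 17, 2),
  (40, 17, 2), (2, 10, 2), (41, 10, 2), (43, 10, 2), (3, 8, 2), (44, 8, 2), (45, 8, 2), (4, 13, 2), (46, 13, 2), (47, 13, 2), (0, 23, 2), (17, 23, 2),
  (20, 23, 2), (31, 23, 2), (34, 23, 2), (1, 18, 2), (35, 18, 2), (38, 18, 2), (2, 11, 2), (39, 11, 2), (41, 11, 2), (0, 24, 2), (20, 24, 2), (23, 24, 2),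
  (28, 24, 2), (31, 24, 2), (1, 19, 2), (32, 19, 2), (35, 19, 2), (0, 25, 2), (23, 25, 2), (25, 25, 2), (26, 25, 2), (28, 25, 2), (0, 26, 2), (23, 26, 2),
  (25, 26, 2), (26, 26, 2), (28, 26, 2), (1, 21, 2), (30, 21, 2), (32, 21, 2), (2, 16, 1), (4, 7, 3), (6, 7, 3), (3, 9, 3), (9, 9, 3), (5, 8, 1),
  (2, 12, 3), (13, 12, 3), (4, 11, 1), (5, 10, 1), (4, 16, 2), (5, 16, 2), (7, 16, 2), (19, 16, 2), (8, 12, 2), (9, 12, 2), (12, 19, 2), (14, 19, 2),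
  (15, 24, 2), (17, 24, 2), (14, 9, 2), (17, 9, 2), (21, 9, 2), (23, 11, 2), (27, 11, 2), (19, 14, 2), (23, 14, 2), (26, 14, 2), (27, 14, 2), (30, 14, 2),
  (30, 18, 2), (32, 18, 2), (28, 9, 3), (32, 9, 3), (36, 9, 3), (34, 8, 1), (38, 8, 1), (41, 8, 1), (41, 12, 3), (43, 12, 3), (47, 11, 1), (46, 16, 2),
  (47, 16, 2), (49, 16, 2), (51, 12, 2), (53, 19, 2), (54, 24, 2), (3, 15, 2), (5, 15, 3), (7, 15, 3), (11, 14, 1), (10, 16, 1), (11, 16, 1), (13, 16, 1),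
  (12, 21, 2), (14, 21, 2), (16, 21, 2), (15, 26, 2), (17, 26, 2), (20, 26, 2), (6, 9, 2), (10, 11, 2), (12, 18, 2), (15, 23, 2), (10, 7, 2), (12, 7, 2),
  (15, 7, 2), (18, 7, 2), (16, 8, 2), (20, 8, 2), (24, 8, 2), (23, 10, 2), (27, 10, 2), (19, 13, 2), (23, 13, 2), (26, 13, 2), (27, 13, 2), (30, 13, 2),
  (28, 8, 2), (32, 8, 2), (30, 17, 2), (32, 17, 2), (35, 17, 2), (39, 10, 2), (31, 7, 3), (35, 7, 3), (39, 7, 3), (42, 7, 3), (45, 9, 3), (16, 15, 2),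
  (20, 15, 2), (24, 15, 2), (49, 15, 3), (52, 16, 1), (53, 21, 2), (54, 26, 2), (25, 12, 3), (29, 12, 3), (31, 11, 1), (35, 11, 1), (34, 10, 1), (38, 10, 1),
  (1, 20, 3), (19, 20, 3), (22, 20, 3), (35, 20, 3), (38, 20, 3), (40, 20, 3), (3, 19, 1), (28, 19, 1), (44, 19, 1), (45, 19, 1), (4, 18, 1), (31, 18, 1),
  (47, 18, 1), (5, 17, 1), (34, 17, 1), (4, 21, 1), (5, 21, 1), (7, 21, 1), (46, 21, 1), (47, 21, 1), (49, 21, 1), (8, 19, 1), (9, 19, 1), (51, 19, 1),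
  (11, 18, 1), (10, 20, 2), (11, 20, 2), (13, 20, 2), (52, 20, 2), (15, 25, 2), (17, 25, 2), (20, 25, 2), (54, 25, 2), (20, 12, 2), (24, 12, 2), (30, 19, 2),
  (26, 15, 3), (30, 15, 3), (33, 15, 3), (31, 14, 1), (35, 14, 1), (39, 14, 1), (34, 13, 1), (38, 13, 1), (41, 13, 1), (39, 16, 1), (41, 16, 1), (43, 16, 1),
  (44, 15, 2), (45, 15, 2), (50, 9, 2), (52, 11, 2), (53, 18, 2), (54, 23, 2), (0, 27, 3), (26, 27, 3), (28, 27, 3), (31, 27, 3), (34, 27, 3), (37, 27, 3),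
  (2, 25, 1), (39, 25, 1), (41, 25, 1), (43, 25, 1), (3, 24, 1), (44, 24, 1), (45, 24, 1), (4, 23, 1), (47, 23, 1), (5, 22, 1), (4, 26, 1), (5, 26, 1),
  (7, 26, 1), (46, 26, 1), (47, 26, 1), (49, 26, 1), (8, 24, 1), (9, 24, 1), (51, 24, 1), (11, 23, 1), (10, 25, 1), (11, 25, 1), (13, 25, 1), (52, 25, 1),
  (16, 24, 1), (19, 26, 1), (12, 27, 2), (14, 27, 2), (16, 27, 2), (19, 27, 2), (22, 27, 2), (53, 27, 2), (27, 20, 2), (29, 20, 2), (36, 12, 2), (42, 9, 2),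
  (46, 14, 2), (46, 7, 2), (48, 7, 2), (51, 8, 2), (52, 10, 2), (53, 17, 2), (54, 22, 2)]
  E₀ := 0x8001800120006008402000420200049012002400902100080210240021024004008800900100920024004092400800109080010806102000610060080018001482000600049060004800120480019006008402100408200042412402408409001fff
  cl := []

theorem L6_valid : L6.Valid :=
  ⟨by decide +kernel, by decide +kernel, by decide +kernel, by decide, by decide, by decide⟩

def Ls : List Chain.LD := [L0, L1, L2, L3, L4, L5, L6]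

theorem valid : ∀ d ∈ Ls, d.Valid := by
  intro d hd
  simp only [Ls, List.mem_cons, List.not_mem_nil, or_false] at hd
  rcases hd with rfl | rfl | rfl | rfl | rfl | rfl | rfl
  · exact L0_valid
  · exact L1_valid
  · exact L2_valid
  · exact L3_valid
  · exact L4_valid
  · exact L5_valid
  · exact L6_valid

theorem chained : Chain.Chained E [] 0 Ls := by
  refine ⟨rfl, by decide, ?_⟩
  refine ⟨rfl, by decide, ?_⟩
  refine ⟨rfl, by decide, ?_⟩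
  refine ⟨rfl, by decide, ?_⟩
  refine ⟨rfl, by decide, ?_⟩
  refine ⟨rfl, by decide, ?_⟩
  refine ⟨rfl, by decide, ?_⟩
  trivial

theorem ws_nil : ∀ d ∈ Ls, d.ws = [] := by decide

theorem E_ok : ∀ w ∈ E, w ∈ Chain.powW ps ∨ Chain.cxOK w = true := by decide

theorem ps_two : ∀ q ∈ ps, q.2 ∣ 2 := by decide

theorem lastK_eq : Chain.lastK 0 Ls = 14 := rfl

theorem prodN_eq : Chain.prodN Ls = 2903040 := by decide

end Cfsg.Agent.Helper89.Sp62x
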