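import Cfsg.Agent.Helper89.CovTools
import Cfsg.Agent.Helper89.Sp62Chain

/-! # The double cover of `Sp(6, 2)`: labelled table on 120 rows (helper89)

Generated data: the action of the generators on the cosets of a subgroup `G2(2)`, with labels in
`ℤ/2`, and the table checks of all relators used. -/

set_option autoImplicit false
set_option maxRecDepth 100000

namespace Cfsg.Agent.Helper89.Sp62c

open Cfsg.Agent.Helper89

def colsT : List ℕ := [0x2c7c8e6d1db7f127b60ebaf6b620625315f47ba31c421af19c6f5649b156a599f5a1f5654e92f6c15f378516de778ac83a67a5fbb611c4247122635551274a5ce754d3ab4f29509e5a545843953408264ee6cc17bbca870e997992143c70d180703413728c04c0c580,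
  0x37ca813225b814e38b769d8b5f7389d091cb795109c974b868baaa57d74ab559d34295a6c56354ac2c367586332a31f6847b26d437901737912da087f3f3bb98bd55984cd4274c0d238c68efe8eca55e0347ee1931dd066de43ac11c3460b023c3b9437a51d0478500,
  0x31706ef1c5fa70e3a3af73e77b0b9a539dfc3411e4c0fb5e9b71e19a2cee8b0b21620aad49e3490cb9373d15155a69d029846c2679e99cb8969578880b2a315cd5d4a04ad9ea7eb5236c71908fbb69409bc66c6c9218613cc540918397692dd883cc395e7037aa8800,
  0xd9a76f1cb277f0e82c698baa2e6e784c760462b1dfc86cff6b67a9990d3e231873aae276173886eb0bcbb48a351b2fc7b34f781cdacb5cb8909174c53298546abd332540a01d84e9b25c3150c1d71f5077d60d77e55c966283080141cfa95d140e34125a93d08ac880,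
  0xefcb711d1c7b6fc3a4516396bac511784e31b9b865418ac5d356755c2955fab70d29509f34ecb95336845a879a7a8f45b6acf9e424cbe21e64d6051cec5bba60a528286ec1a872aa3ac323081fbf4e71bd638c234457612835c7c6e96f21727270330c064055c90380,
  0xefc748f8bdb961e1d64953767773678b00dc97b7893f9ae581daad5d24feb433d45a509e7674a992c5054a4343956f09b5aafa13d54c13d36301b5210dd92f740e3a4a89972888ed682305e35f40e26eb396d19919b0b571653a21226b1a283b72e7021c24852b0300,
  0x5d9668f8275ad7a512feb19c263472957e896b635c432073fdfdb9eaa3789acef9ac478066a33c870f5de8d91a878c5de9c48a9a62329c24069f9639f4377534af0307b389422e1ad9874dd0152c105c55568a67c3b369b5236cbe655aa9fe226487001618a2020101,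
  0xa769847b2d45eab6c4a96d962064314bb4b68fcbaddb5a4604a688d1e0386cd7bbebb266abae9c6e84dea184e6e0aa39cfb8415c3828f3b9451b8e8983e12ccbdf1545c6c9c46cf33388afafa1192794a28be7244e7d019aaa5d83e97496b3a10502109831e6e04007]

def colsL : List ℕ := [0x462aa8204e088b0037e7a802140024,
  0x41942440e2dc1e1662630cc1010008,
  0xc69a2204322c8710a682888080c018,
  0xda00a830120b92b00dd289c1800008,
  0x800c21810b4f2a4e80672e082,
  0x10101008660c851aa584a00334e0c0,
  0xd4b1dbf15a820501345f01ceb06600,
  0x842f2ad5654b45a2135c326874c210]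

abbrev cT : ℕ → ℕ → ℕ := TP.colF 7 127 colsT
abbrev cL : ℕ → ℕ → ℕ := TP.colF 1 1 colsL

theorem inv_ok : TP.invOK 120 2 cT cL 8 = true := by decide +kernel

theorem hk : ∀ j, j < 8 → CT2.iv j < 8 := by
  intro j hj
  rw [iv_eq]
  split <;> omega

/-- conjugation data `(i, x, k, o)`: `x g_i x⁻¹ = g_i ^ k`, `g_i ^ o = 1` -/
def cj : List (ℕ × List ℕ × ℕ × ℕ) := [(0, [2], 2, 7), (1, [0, 5, 7, 7, 1], 2, 3), (2, [0, 2, 0, 5, 0, 0], 2, 3), (3, [1, 4, 7, 7, 5, 2], 4, 5)]

/-- a word for the generator of the kernel -/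
def zw : List ℕ := [0, 7, 0, 7, 0, 7]

abbrev rok (w : List ℕ) : Bool := TP.relOK 120 2 cT cL 8 w

theorem tab_pw : (Chain.powW ps).all rok = true := by decide +kernel

theorem tab_w1 : (L1.ws).all rok = true := by decide +kernel

theorem tab_w2 : (L2.ws).all rok = true := by decide +kernel

theorem tab_w3 : (L3.ws).all rok = true := by decide +kernel

theorem tab_cj : (cj.map Stem.conjWord).all rok = true := by decide +kernel

theorem tab_cp : (cj.map (fun c => List.replicate c.2.2.2 (2 * c.1))).all rok = true := by decide +kernel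

theorem tab_zc : (CT.commWords zw 4).all rok = true := by decide +kernel

theorem tab_zsq : ([CT.rep zw 2]).all rok = true := by decide +kernel

theorem tab_z : TP.walkT 120 2 cT cL zw 0 0 ≠ (0, 0) := by decide +kernel

end Cfsg.Agent.Helper89.Sp62c
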