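import Cfsg.Agent.Helper89.Stem5

/-!
# Stem extensions: extraspecial Sylow subgroups of order `p ^ 3` with a diagonal automorphism
(helper89)

`Stem.lift_comm_pow`: lifts of commuting elements `a, b` to a central extension commute when a
further element raises `a` to the power `i` and `b` to the power `j` with `i * j - 1` prime to the
order `p` of `a`.

`Stem.extraspecial_core_pow` and `Stem.not_dvd_card_ker_of_extraspecial_pow`: the transfer
argument for a Sylow `p`-subgroup `⟨a, b⟩` of order `p ^ 3` with central commutator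
`c = a b a⁻¹ b⁻¹`, when some element `n` satisfies `n a n⁻¹ = a ^ i`, `n b n⁻¹ = b ^ j`,
`n c n⁻¹ = c ^ d` with `i * d - 1` and `j * d - 1` prime to `p` (for instance an element
inverting `a` and `b`: `i = j = p - 1`, `d = 1`; or `i = 2, j = 4, d = 1` for `p = 7`).

`Stem.not_dvd_card_ker_of_extraspecial7`: the case `p = 7`, where the bound `|⟨a, b⟩| ∣ 343`
comes from a chain certificate (`E343`).
-/

set_option autoImplicit false
set_option maxRecDepth 100000

namespace Cfsg.Agent.Helper89.E343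

open Cfsg.Agent.Helper89

def X0 : Chain.LD where
  n := 7
  k := 2
  k₀ := 0
  T := tbl 3 2 0x2c7b23600d1
  Lb := tbl 1 2 0x0
  par := vec 3 0x11a200
  gam := vec 4 0x1010100
  S := []
  ex := [[0, 0, 0, 0, 0, 0, 0]]
  ws := []
  steps := [
  (0, 0, 3)]
  E₀ := 0x1bff
  cl := []

theorem X0_valid : X0.Valid :=
  ⟨by decide +kernel, by decide +kernel, by decide +kernel, by decide, by decide, by decide⟩

def X1 : Chain.LD where
  n := 49
  k := 4
  k₀ := 2
  T := tbl 6 4 0x95dc30a19bef8e99d892662a857ae7896aac715b6bba8595a6f954813b2eb654d79b04a87ed7116ee46042b85c3ec8223678e17643cd48c79ec1f64c2aa8a466329050969abdb25d448badb14988ad2229a87a535daa079c656659e1a51589233226c526115f18438e1207ca7907441c32cb0dc35b68f0d96025d654b5024ce09205140f38d3012ca0492001c6005103081000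
  Lb := tbl 1 4 0x0
  par := vec 6 0x1d6586175955544d34914503cd34c30a2892482081c71861451441040c30c2082041040000
  gam := vec 4 0x3310333113001022213120303103130210321320310210320
  S := [0, 1]
  ex := [[0, 0, 0, 0, 0, 0, 0], [2, 2, 2, 2, 2, 2, 2], [0, 2, 1, 3, 0, 2, 0, 3, 1, 1], [0, 2, 1, 3, 2, 2, 0, 3, 1, 3]]
  ws := []
  steps := [
  (1, 0, 3), (2, 0, 3), (0, 1, 3), (0, 2, 4), (14, 2, 4), (30, 2, 4), (48, 2, 4), (47, 2, 4), (26, 2, 4), (0, 3, 6), (1, 3, 6), (7, 3, 9),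
  (11, 3, 7), (14, 3, 5), (20, 3, 9), (21, 3, 0), (23, 3, 9), (26, 3, 7), (30, 3, 5), (40, 3, 9), (41, 3, 9), (42, 3, 0), (44, 3, 0), (46, 3, 9),
  (47, 3, 6), (48, 3, 6), (3, 1, 2), (9, 1, 2), (16, 2, 3), (23, 2, 7), (27, 2, 2), (46, 2, 7), (5, 2, 6), (10, 2, 1), (13, 2, 2), (15, 2, 6),
  (21, 2, 7), (25, 1, 2), (8, 2, 8), (19, 2, 8), (28, 2, 1), (34, 2, 2), (42, 2, 8), (44, 2, 8), (29, 1, 5), (33, 2, 1), (35, 2, 1), (4, 1, 5),
  (12, 1, 5)]
  E₀ := 0x44124441142212888149824a79ae3d3b564eb4dbfbbffffff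
  cl := []

theorem X1_valid : X1.Valid :=
  ⟨by decide +kernel, by decide +kernel, by decide +kernel, by decide, by decide, by decide⟩

def Ls : List Chain.LD := [X0, X1]

/-- The relators: `a ^ 7`, `b ^ 7`, `[[a, b], a]`, `[[a, b], b]`. -/
def E : List (List ℕ) :=
  [[0, 0, 0, 0, 0, 0, 0], [2, 2, 2, 2, 2, 2, 2], [0, 2, 1, 3, 0, 2, 0, 3, 1, 1],
    [0, 2, 1, 3, 2, 2, 0, 3, 1, 3]]

theorem valid : ∀ d ∈ Ls, d.Valid := by
  intro d hd
  simp only [Ls, List.mem_cons, List.not_mem_nil, or_false] at hd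
  rcases hd with rfl | rfl
  · exact X0_valid
  · exact X1_valid

theorem chained : Chain.Chained E [] 0 Ls := by
  refine ⟨rfl, by decide, ?_⟩
  refine ⟨rfl, by decide, ?_⟩
  trivial

theorem ws_nil : ∀ d ∈ Ls, ∀ w ∈ d.ws, False := by decide

end Cfsg.Agent.Helper89.E343

namespace Cfsg.Agent.Helper89.Stem

open Subgroup
open scoped commutatorElement

/-- Lifts of commuting elements `a` (with `a ^ p = 1`) and `b` commute, when a further element
raises `a` to the power `i` and `b` to the power `j` and `i * j - 1` is prime to `p`. -/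
theorem lift_comm_pow {Γ G : Type*} [Group Γ] [Group G] (σ : Γ →* G) (hc : σ.ker ≤ center Γ)
    {p i j : ℕ} (hij : 1 ≤ i * j) (hcop : Nat.Coprime (i * j - 1) p) {a b t : G}
    (ha : a ^ p = 1) (hab : a * b = b * a) (hta : t * a * t⁻¹ = a ^ i)
    (htb : t * b * t⁻¹ = b ^ j) {a' b' t' : Γ} (hA : σ a' = a) (hB : σ b' = b)
    (hT : σ t' = t) : a' * b' = b' * a' := by
  have cen : ∀ {k : Γ}, σ k = 1 → ∀ g, k * g = g * k := fun hk g =>
    (Subgroup.mem_center_iff.1 (hc (MonoidHom.mem_ker.2 hk)) g).symm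
  set w := a' * b' * a'⁻¹ * b'⁻¹ with hw
  have hwK : σ w = 1 := by
    rw [hw, map_mul, map_mul, map_mul, map_inv, map_inv, hA, hB, hab]; group
  have hwc := cen hwK
  have hwn : ∀ (n : ℕ) (g : Γ), w ^ n * g = g * w ^ n := fun n g =>
    ((Commute.pow_left (show Commute w g from hwc g) n)).eq
  have hwb : a' * b' * a'⁻¹ = w * b' := by rw [hw]; group
  have key : ∀ n : ℕ, a' ^ n * b' * (a' ^ n)⁻¹ = w ^ n * b' := by
    intro n
    induction n with
    | zero => simp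
    | succ n ih =>
      calc a' ^ (n + 1) * b' * (a' ^ (n + 1))⁻¹
          = a' * (a' ^ n * b' * (a' ^ n)⁻¹) * a'⁻¹ := by rw [pow_succ']; group
        _ = a' * (w ^ n * b') * a'⁻¹ := by rw [ih]
        _ = w ^ n * (a' * b' * a'⁻¹) := by rw [← mul_assoc a', ← hwn n a']; group
        _ = w ^ (n + 1) * b' := by rw [hwb, ← mul_assoc, ← pow_succ]
  -- (i) `w ^ p = 1`
  have hap : σ (a' ^ p) = 1 := by rw [map_pow, hA, ha]
  have hwp : w ^ p = 1 := by
    have h1 := key p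
    rw [cen hap b', mul_inv_cancel_right] at h1
    exact (mul_eq_right.1 h1.symm)
  -- (ii) bilinearity
  have key2 : ∀ m n : ℕ, a' ^ m * b' ^ n * (a' ^ m)⁻¹ = w ^ (m * n) * b' ^ n := by
    intro m n
    induction n with
    | zero => simp
    | succ n ih =>
      calc a' ^ m * b' ^ (n + 1) * (a' ^ m)⁻¹
          = (a' ^ m * b' ^ n * (a' ^ m)⁻¹) * (a' ^ m * b' * (a' ^ m)⁻¹) := by
            rw [pow_succ]; group
        _ = (w ^ (m * n) * b' ^ n) * (w ^ m * b') := by rw [ih, key m]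
        _ = w ^ (m * n) * (w ^ m * b' ^ n) * b' := by
            rw [mul_assoc (w ^ (m * n)), ← mul_assoc (b' ^ n), ← hwn m (b' ^ n)]
            simp only [mul_assoc]
        _ = w ^ (m * (n + 1)) * b' ^ (n + 1) := by
            rw [← mul_assoc (w ^ (m * n)), ← pow_add, mul_assoc, ← pow_succ, Nat.mul_succ]
  -- (iii) conjugation by `t'`
  have hk₁ : σ ((a' ^ i)⁻¹ * (t' * a' * t'⁻¹)) = 1 := by
    rw [map_mul, map_mul, map_mul, map_inv, map_inv, map_pow, hA, hT, hta, inv_mul_cancel]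
  have hk₂ : σ ((b' ^ j)⁻¹ * (t' * b' * t'⁻¹)) = 1 := by
    rw [map_mul, map_mul, map_mul, map_inv, map_inv, map_pow, hB, hT, htb, inv_mul_cancel]
  have e1 : t' * a' * t'⁻¹ = a' ^ i * ((a' ^ i)⁻¹ * (t' * a' * t'⁻¹)) := by group
  have e2 : t' * b' * t'⁻¹ = b' ^ j * ((b' ^ j)⁻¹ * (t' * b' * t'⁻¹)) := by group
  have h3 : t' * w * t'⁻¹ = (t' * a' * t'⁻¹) * (t' * b' * t'⁻¹) * (t' * a' * t'⁻¹)⁻¹ *
      (t' * b' * t'⁻¹)⁻¹ := by rw [hw]; group
  have h4 : t' * w * t'⁻¹ = w := by rw [← hwc t', mul_inv_cancel_right]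
  have h5 : a' ^ i * b' ^ j * (a' ^ i)⁻¹ * (b' ^ j)⁻¹ = w ^ (i * j) := by
    rw [key2 i j, mul_inv_cancel_right]
  have h6 : w ^ (i * j) = w := by
    rw [e1, e2, comm_central_mul (cen hk₁) (cen hk₂), h5] at h3
    rw [h4] at h3
    exact h3.symm
  have h7 : w ^ (i * j - 1) = 1 := by
    have e : i * j = (i * j - 1) + 1 := by omega
    rw [e, pow_succ] at h6
    exact mul_eq_right.1 h6
  -- (iv)
  have h8 : orderOf w ∣ 1 := by
    have := Nat.dvd_gcd (orderOf_dvd_of_pow_eq_one h7) (orderOf_dvd_of_pow_eq_one hwp)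
    rwa [Nat.Coprime.gcd_eq_one hcop] at this
  have hw1 : w = 1 := orderOf_eq_one_iff.1 (Nat.dvd_one.1 h8)
  rw [hw] at hw1
  calc a' * b' = a' * b' * a'⁻¹ * b'⁻¹ * (b' * a') := by group
    _ = b' * a' := by rw [hw1, one_mul]

/-- The core of the transfer argument for an extraspecial group `⟨a, b⟩` of order `p ^ 3` with
an element acting diagonally. -/
theorem extraspecial_core_pow {Γ G : Type*} [Group Γ] [Group G] (p : ℕ) [Fact p.Prime]
    (σ : Γ →* G) (hσ : Function.Surjective σ) (hc : σ.ker ≤ center Γ) {a b n : G}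
    {i j d : ℕ} (ha : a ^ p = 1) (hb : b ^ p = 1) (hne : a * b ≠ b * a)
    (hca : (a * b * a⁻¹ * b⁻¹) * a = a * (a * b * a⁻¹ * b⁻¹))
    (hcb : (a * b * a⁻¹ * b⁻¹) * b = b * (a * b * a⁻¹ * b⁻¹))
    (hna : n * a * n⁻¹ = a ^ i) (hnb : n * b * n⁻¹ = b ^ j)
    (hnc : n * (a * b * a⁻¹ * b⁻¹) * n⁻¹ = (a * b * a⁻¹ * b⁻¹) ^ d)
    (hi : 1 ≤ i * d) (hi' : Nat.Coprime (i * d - 1) p)
    (hj : 1 ≤ j * d) (hj' : Nat.Coprime (j * d - 1) p) (P : Subgroup Γ)
    (hP : P.map σ ≤ closure {a, b}) :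
    ∀ z : P, z ∈ commutator P → σ (z : Γ) = 1 → z = 1 := by
  obtain ⟨a', hA⟩ := hσ a
  obtain ⟨b', hB⟩ := hσ b
  obtain ⟨n', hN⟩ := hσ n
  have cen : ∀ {k : Γ}, σ k = 1 → ∀ g, k * g = g * k := fun hk g =>
    (Subgroup.mem_center_iff.1 (hc (MonoidHom.mem_ker.2 hk)) g).symm
  have hC : σ (a' * b' * a'⁻¹ * b'⁻¹) = a * b * a⁻¹ * b⁻¹ := by
    rw [map_mul, map_mul, map_mul, map_inv, map_inv, hA, hB]
  have hac : a' * (a' * b' * a'⁻¹ * b'⁻¹) = (a' * b' * a'⁻¹ * b'⁻¹) * a' :=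
    lift_comm_pow σ hc hi hi' ha hca.symm hna hnc hA hC hN
  have hbc : b' * (a' * b' * a'⁻¹ * b'⁻¹) = (a' * b' * a'⁻¹ * b'⁻¹) * b' :=
    lift_comm_pow σ hc hj hj' hb hcb.symm hnb hnc hB hC hN
  -- the `p`-th power of the commutator
  have hc3' : (a' * b' * a'⁻¹ * b'⁻¹) ^ p = 1 := by
    have h1 := pow_conj hac.symm (show a' * b' * a'⁻¹ = (a' * b' * a'⁻¹ * b'⁻¹) * b' by group) p
    have h2 : σ (a' ^ p) = 1 := by rw [map_pow, hA, ha]
    rw [cen h2 b', mul_inv_cancel_right] at h1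
    exact mul_eq_right.1 h1.symm
  have hc3 : (a * b * a⁻¹ * b⁻¹) ^ p = 1 := by
    have h1 := pow_conj hca (show a * b * a⁻¹ = (a * b * a⁻¹ * b⁻¹) * b by group) p
    rw [ha, one_mul, inv_one, mul_one] at h1
    exact mul_eq_right.1 h1.symm
  have hc1 : a * b * a⁻¹ * b⁻¹ ≠ 1 := by
    intro h
    apply hne
    calc a * b = a * b * a⁻¹ * b⁻¹ * (b * a) := by group
      _ = b * a := by rw [h, one_mul]
  have hord : orderOf (a * b * a⁻¹ * b⁻¹) = p :=
    orderOf_eq_prime hc3 hc1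
  -- commutators of the preimage
  have hcomm : ∀ x ∈ closure ({a', b'} : Set Γ), ∀ y ∈ closure ({a', b'} : Set Γ),
      x * y * x⁻¹ * y⁻¹ ∈ zpowers (a' * b' * a'⁻¹ * b'⁻¹) := by
    apply commutator_mem_of_central
    · intro m hm s hs
      obtain ⟨k, rfl⟩ := mem_zpowers_iff.1 hm
      simp only [Set.mem_insert_iff, Set.mem_singleton_iff] at hs
      rcases hs with rfl | rfl
      · exact (Commute.zpow_left (show Commute _ s from hac.symm) k).eq
      · exact (Commute.zpow_left (show Commute _ s from hbc.symm) k).eq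
    · intro s hs s' hs'
      simp only [Set.mem_insert_iff, Set.mem_singleton_iff] at hs hs'
      rcases hs with rfl | rfl <;> rcases hs' with rfl | rfl
      · simpa using Subgroup.one_mem _
      · exact mem_zpowers _
      · have e : s * s' * s⁻¹ * s'⁻¹ = (s' * s * s'⁻¹ * s⁻¹)⁻¹ := by group
        rw [e]
        exact inv_mem (mem_zpowers _)
      · simpa using Subgroup.one_mem _
  have hdec : ∀ x ∈ P, ∃ y ∈ closure ({a', b'} : Set Γ), ∃ k : Γ, σ k = 1 ∧ x = y * k := by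
    intro x hx
    have h1 : σ x ∈ (closure ({a', b'} : Set Γ)).map σ := by
      rw [MonoidHom.map_closure, Set.image_pair, hA, hB]
      exact hP (Subgroup.mem_map_of_mem σ hx)
    obtain ⟨y, hy, hyx⟩ := h1
    refine ⟨y, hy, y⁻¹ * x, ?_, by group⟩
    rw [map_mul, map_inv, hyx, inv_mul_cancel]
  have hle : commutator P ≤ (zpowers (a' * b' * a'⁻¹ * b'⁻¹)).comap P.subtype := by
    rw [commutator_eq_closure, closure_le]
    rintro _ ⟨x, y, rfl⟩
    obtain ⟨x₁, hx₁, k₁, hk₁, hx⟩ := hdec x x.2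
    obtain ⟨y₁, hy₁, k₂, hk₂, hy⟩ := hdec y y.2
    show (P.subtype ⁅x, y⁆) ∈ zpowers (a' * b' * a'⁻¹ * b'⁻¹)
    rw [commutatorElement_def]
    simp only [map_mul, map_inv, Subgroup.subtype_apply]
    rw [hx, hy, comm_central_mul (cen hk₁) (cen hk₂)]
    exact hcomm x₁ hx₁ y₁ hy₁
  intro z hz hz1
  have h1 : (z : Γ) ∈ zpowers (a' * b' * a'⁻¹ * b'⁻¹) := hle hz
  obtain ⟨k, hk⟩ := mem_zpowers_iff.1 h1
  have h2 : (a * b * a⁻¹ * b⁻¹) ^ k = 1 := by
    rw [← hC, ← map_zpow, hk, hz1]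
  have h3 : ((p : ℕ) : ℤ) ∣ k := by
    rw [← hord]; exact orderOf_dvd_iff_zpow_eq_one.2 h2
  obtain ⟨m, rfl⟩ := h3
  apply Subtype.ext
  rw [← hk, zpow_mul, zpow_natCast, hc3', one_zpow]
  rfl

/-- Extraspecial Sylow `p`-subgroup `⟨a, b⟩` of order `p ^ 3` (`p ^ 4 ∤ |G|`) with an element
`n` acting diagonally (`n a n⁻¹ = a ^ i`, `n b n⁻¹ = b ^ j`, `n c n⁻¹ = c ^ d` for the commutator
`c`, with `i * d - 1` and `j * d - 1` prime to `p`): `p` does not divide the order of the kernel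
of a stem extension. -/
theorem not_dvd_card_ker_of_extraspecial_pow {Γ G : Type*} [Group Γ] [Finite Γ] [Group G]
    [Finite G] (p : ℕ) [Fact p.Prime] (σ : Γ →* G) (hσ : Function.Surjective σ)
    (hc : σ.ker ≤ center Γ) (hd : σ.ker ≤ commutator Γ) (a b n : G) (i j d : ℕ)
    (ha : a ^ p = 1) (hb : b ^ p = 1) (hne : a * b ≠ b * a)
    (hca : (a * b * a⁻¹ * b⁻¹) * a = a * (a * b * a⁻¹ * b⁻¹))
    (hcb : (a * b * a⁻¹ * b⁻¹) * b = b * (a * b * a⁻¹ * b⁻¹))
    (hna : n * a * n⁻¹ = a ^ i) (hnb : n * b * n⁻¹ = b ^ j)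
    (hnc : n * (a * b * a⁻¹ * b⁻¹) * n⁻¹ = (a * b * a⁻¹ * b⁻¹) ^ d)
    (hi : 1 ≤ i * d) (hi' : Nat.Coprime (i * d - 1) p)
    (hj : 1 ≤ j * d) (hj' : Nat.Coprime (j * d - 1) p)
    (h3 : Nat.card (closure ({a, b} : Set G)) ∣ p ^ 3) (hG : ¬ p ^ 4 ∣ Nat.card G) :
    ¬ p ∣ Nat.card σ.ker := by
  have hp : Nat.Prime p := Fact.out
  apply not_dvd_card_ker σ hc hd p
  intro P
  have haP : a ∈ closure ({a, b} : Set G) := subset_closure (by simp)
  have hbP : b ∈ closure ({a, b} : Set G) := subset_closure (by simp)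
  have hncomm : ¬ ∀ x y : closure ({a, b} : Set G), x * y = y * x := by
    intro h
    exact hne (congrArg Subtype.val (h ⟨a, haP⟩ ⟨b, hbP⟩))
  have hcard : Nat.card (closure ({a, b} : Set G)) = p ^ 3 := by
    obtain ⟨k, hk, hk'⟩ := (Nat.dvd_prime_pow hp).1 h3
    interval_cases k
    · exfalso
      apply hncomm
      have : Subsingleton (closure ({a, b} : Set G)) :=
        (Nat.card_eq_one_iff_unique.1 (by simpa using hk')).1
      intro x y
      rw [Subsingleton.elim x y]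
    · exfalso
      apply hncomm
      have : IsCyclic (closure ({a, b} : Set G)) :=
        isCyclic_of_prime_card (p := p) (by simpa using hk')
      intro x y
      exact (IsCyclic.commGroup (α := closure ({a, b} : Set G))).mul_comm x y
    · exfalso
      apply hncomm
      intro x y
      exact IsPGroup.commutative_of_card_eq_prime_sq (p := p) hk' x y
    · exact hk'
  have hpg : IsPGroup p (closure ({a, b} : Set G)) := IsPGroup.of_card hcard
  obtain ⟨Q₀, hQ₀⟩ := hpg.exists_le_sylow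
  obtain ⟨m, hm⟩ := IsPGroup.iff_card.1 Q₀.isPGroup'
  have hm3 : m ≤ 3 := by
    by_contra hcon
    have h1 : p ^ m ∣ Nat.card G := hm ▸ Subgroup.card_subgroup_dvd_card _
    exact hG ((pow_dvd_pow p (by omega : 4 ≤ m)).trans h1)
  have hQeq : closure ({a, b} : Set G) = (Q₀ : Subgroup G) := by
    apply Subgroup.eq_of_le_of_card_ge hQ₀
    rw [hcard, hm]
    exact Nat.pow_le_pow_right hp.pos hm3
  have hpgP : IsPGroup p ((P : Subgroup Γ).map σ) := P.isPGroup'.map σ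
  obtain ⟨Q, hQ⟩ := hpgP.exists_le_sylow
  obtain ⟨g, hg⟩ := MulAction.exists_smul_eq G Q₀ Q
  have hmap : (P : Subgroup Γ).map σ ≤
      closure {MulAut.conj g a, MulAut.conj g b} := by
    intro y hy
    have h1 : y ∈ (Q : Subgroup G) := hQ hy
    rw [← hg, Sylow.coe_subgroup_smul, Subgroup.mem_pointwise_smul_iff_inv_smul_mem,
      ← hQeq] at h1
    have h2 : (MulAut.conj g).toMonoidHom ((MulAut.conj g)⁻¹ • y) ∈
        (closure ({a, b} : Set G)).map (MulAut.conj g).toMonoidHom :=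
      Subgroup.mem_map_of_mem _ h1
    rw [MonoidHom.map_closure, Set.image_pair] at h2
    have e : (MulAut.conj g).toMonoidHom ((MulAut.conj g)⁻¹ • y) = y := by
      simp only [MulAut.smul_def, MulEquiv.coe_toMonoidHom, MulAut.conj_apply,
        MulAut.conj_inv_apply]
      group
    rw [e] at h2
    exact h2
  have hφ : ∀ {x y : G}, x = y → MulAut.conj g x = MulAut.conj g y := fun h => by rw [h]
  apply extraspecial_core_pow p σ hσ hc (a := MulAut.conj g a) (b := MulAut.conj g b)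
    (n := MulAut.conj g n) (i := i) (j := j) (d := d)
    (by rw [← map_pow, ha, map_one]) (by rw [← map_pow, hb, map_one])
    (by
      intro h
      apply hne
      apply (MulAut.conj g).injective
      rw [map_mul, map_mul, h])
    (by simpa only [map_mul, map_inv] using hφ hca)
    (by simpa only [map_mul, map_inv] using hφ hcb)
    (by simpa only [map_mul, map_inv, map_pow] using hφ hna)
    (by simpa only [map_mul, map_inv, map_pow] using hφ hnb)
    (by simpa only [map_mul, map_inv, map_pow] using hφ hnc)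
    hi hi' hj hj' (P : Subgroup Γ) hmap

theorem card_pair_dvd7 {G : Type*} [Group G] [Finite G] (a b : G) (ha : a ^ 7 = 1)
    (hb : b ^ 7 = 1) (hca : (a * b * a⁻¹ * b⁻¹) * a = a * (a * b * a⁻¹ * b⁻¹))
    (hcb : (a * b * a⁻¹ * b⁻¹) * b = b * (a * b * a⁻¹ * b⁻¹)) :
    Nat.card (closure ({a, b} : Set G)) ∣ 343 := by
  rw [← closure_gl_pair]
  have hE : ∀ w ∈ E343.E, ev (gl [a, b]) w = 1 := by
    intro ρ hρ
    simp only [E343.E, List.mem_cons, List.not_mem_nil, or_false] at hρ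
    rcases hρ with rfl | rfl | rfl | rfl
    · have e := ev_replicate (gl [a, b]) 0 7
      rw [show List.replicate 7 0 = [0, 0, 0, 0, 0, 0, 0] from rfl] at e
      rw [e]
      exact ha
    · have e := ev_replicate (gl [a, b]) 2 7
      rw [show List.replicate 7 2 = [2, 2, 2, 2, 2, 2, 2] from rfl] at e
      rw [e]
      exact hb
    · show a * (b * (a⁻¹ * (b⁻¹ * (a * (b * (a * (b⁻¹ * (a⁻¹ * (a⁻¹ * 1))))))))) = 1
      have e : a * (b * (a⁻¹ * (b⁻¹ * (a * (b * (a * (b⁻¹ * (a⁻¹ * (a⁻¹ * 1))))))))) =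
          (a * b * a⁻¹ * b⁻¹) * a * (a * b * a⁻¹ * b⁻¹)⁻¹ * a⁻¹ := by group
      rw [e, hca]; group
    · show a * (b * (a⁻¹ * (b⁻¹ * (b * (b * (a * (b⁻¹ * (a⁻¹ * (b⁻¹ * 1))))))))) = 1
      have e : a * (b * (a⁻¹ * (b⁻¹ * (b * (b * (a * (b⁻¹ * (a⁻¹ * (b⁻¹ * 1))))))))) =
          (a * b * a⁻¹ * b⁻¹) * b * (a * b * a⁻¹ * b⁻¹)⁻¹ * b⁻¹ := by group
      rw [e, hcb]; group
  have h := Chain.gchain (gl [a, b]) (gl_inv _) E343.E hE E343.Ls [] 0 E343.valid E343.chained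
    (by simp) (fun d hd w hw => (E343.ws_nil d hd w hw).elim)
  have h0 : Nat.card (closure (gl [a, b] '' Set.Iio 0)) = 1 := by
    have : (gl [a, b] '' Set.Iio 0) = ∅ := by
      ext x; simp
    rw [this, Subgroup.closure_empty, Subgroup.card_bot]
  rw [h0, mul_one] at h
  exact h

/-- Extraspecial Sylow 7-subgroup of order 343 with an element acting diagonally: 7 does not
divide the order of the kernel of a stem extension. -/
theorem not_dvd_card_ker_of_extraspecial7 {Γ G : Type*} [Group Γ] [Finite Γ] [Group G]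
    [Finite G] (σ : Γ →* G) (hσ : Function.Surjective σ) (hc : σ.ker ≤ center Γ)
    (hd : σ.ker ≤ commutator Γ) (a b n : G) (i j d : ℕ) (ha : a ^ 7 = 1) (hb : b ^ 7 = 1)
    (hne : a * b ≠ b * a)
    (hca : (a * b * a⁻¹ * b⁻¹) * a = a * (a * b * a⁻¹ * b⁻¹))
    (hcb : (a * b * a⁻¹ * b⁻¹) * b = b * (a * b * a⁻¹ * b⁻¹))
    (hna : n * a * n⁻¹ = a ^ i) (hnb : n * b * n⁻¹ = b ^ j)
    (hnc : n * (a * b * a⁻¹ * b⁻¹) * n⁻¹ = (a * b * a⁻¹ * b⁻¹) ^ d)
    (hi : 1 ≤ i * d) (hi' : Nat.Coprime (i * d - 1) 7)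
    (hj : 1 ≤ j * d) (hj' : Nat.Coprime (j * d - 1) 7) (hG : ¬ 7 ^ 4 ∣ Nat.card G) :
    ¬ 7 ∣ Nat.card σ.ker := by
  have hfact : Fact (Nat.Prime 7) := ⟨by norm_num⟩
  exact not_dvd_card_ker_of_extraspecial_pow 7 σ hσ hc hd a b n i j d ha hb hne hca hcb hna hnb
    hnc hi hi' hj hj' (card_pair_dvd7 a b ha hb hca hcb) hG

end Cfsg.Agent.Helper89.Stem
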